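import Groth.Agent.GrpdLib.FibreIso

/-!
# Composition is a base change of the source map
-/

set_option backward.isDefEq.respectTransparency false
set_option backward.isDefEq.respectTransparency.types false

universe u

open CategoryTheory CategoryTheory.Limits AlgebraicGeometry Grpd

namespace Groth.Agent.GrpdFld

variable {S : Scheme.{u}} (G : GroupoidScheme S)

/-- The square `(c, β)` over `(s, s)` is Cartesian. -/
theorem isPullback_c : IsPullback G.c (pullback.snd G.s G.t) G.s G.s := by
  let P := pullback G.s G.s
  let inv : P ⟶ pullback G.s G.t :=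
    pullback.lift
      (pullback.lift (pullback.fst G.s G.s) (pullback.snd G.s G.s ≫ G.i)
        (by rw [Category.assoc, G.i_t, pullback.condition]) ≫ G.c)
      (pullback.snd G.s G.s) (by rw [G.comp_s, Category.assoc, G.i_s])
  let hom : pullback G.s G.t ⟶ P := pullback.lift G.c (pullback.snd G.s G.t) (GrpdLib.c_s G)
  have h1 : inv ≫ hom = 𝟙 P := by
    apply pullback.hom_ext
    · rw [Category.assoc, pullback.lift_fst, Category.id_comp]
      exact GrpdLib.comp_inv_cancel G _ _ pullback.condition
    · simp [inv, hom]
  have h2 : hom ≫ inv = 𝟙 _ := by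
    apply pullback.hom_ext
    · rw [Category.assoc, pullback.lift_fst, Category.id_comp, GrpdLib.lift_comp_c]
      simp only [hom, pullback.lift_fst, pullback.lift_snd_assoc]
      have hc : G.c = pullback.lift (pullback.fst G.s G.t) (pullback.snd G.s G.t) pullback.condition ≫ G.c := by
        rw [show pullback.lift (pullback.fst G.s G.t) (pullback.snd G.s G.t) pullback.condition = 𝟙 _ by
          apply pullback.hom_ext <;> simp, Category.id_comp]
      refine (GrpdLib.c_congr G _ hc rfl).trans ?_
      exact GrpdLib.comp_inv_cancel' G _ _ pullback.condition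
    · simp [inv, hom]
  exact (IsPullback.of_hasPullback G.s G.s).of_iso ⟨inv, hom, h1, h2⟩ (Iso.refl _) (Iso.refl _)
    (Iso.refl _) (by
      simp only [Iso.refl_hom, Category.comp_id]
      rw [← Category.id_comp (pullback.fst G.s G.s), ← h1, Category.assoc, pullback.lift_fst])
    (by simp [inv]) (by simp) (by simp)

end Groth.Agent.GrpdFld

namespace Groth.Agent.GrpdFld

variable {S : Scheme.{u}} (G : GroupoidScheme S)

/-- The square `(c, α)` over `(t, t)` is Cartesian. -/
theorem isPullback_c_t : IsPullback G.c (pullback.fst G.s G.t) G.t G.t := by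
  let P := pullback G.t G.t
  let inv : P ⟶ pullback G.s G.t :=
    pullback.lift (pullback.snd G.t G.t)
      (pullback.lift (pullback.snd G.t G.t ≫ G.i) (pullback.fst G.t G.t)
        (by rw [Category.assoc, G.i_s, pullback.condition]) ≫ G.c)
      (by rw [G.comp_t, Category.assoc, G.i_t])
  let hom : pullback G.s G.t ⟶ P := pullback.lift G.c (pullback.fst G.s G.t) (GrpdLib.c_t G)
  have h1 : inv ≫ hom = 𝟙 P := by
    apply pullback.hom_ext
    · rw [Category.assoc, pullback.lift_fst, Category.id_comp]
      simp only [inv]
      rw [← G.assoc (pullback.snd G.t G.t) (pullback.snd G.t G.t ≫ G.i) (pullback.fst G.t G.t)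
        (by rw [Category.assoc, G.i_t]) (by rw [Category.assoc, G.i_s, pullback.condition])]
      refine (GrpdLib.c_congr G _ (G.comp_i _) rfl).trans ((GrpdLib.c_congr G _ ?_ rfl).trans (G.e_comp _))
      rw [pullback.condition_assoc]
    · simp [inv, hom]
  have h2 : hom ≫ inv = 𝟙 _ := by
    apply pullback.hom_ext
    · simp [inv, hom]
    · rw [Category.assoc, pullback.lift_snd, Category.id_comp, GrpdLib.lift_comp_c]
      simp only [hom, pullback.lift_fst, pullback.lift_snd_assoc]
      have hc : G.c = pullback.lift (pullback.fst G.s G.t) (pullback.snd G.s G.t) pullback.condition ≫ G.c := by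
        rw [show pullback.lift (pullback.fst G.s G.t) (pullback.snd G.s G.t) pullback.condition = 𝟙 _ by
          apply pullback.hom_ext <;> simp, Category.id_comp]
      refine (GrpdLib.c_congr G _ rfl hc).trans ?_
      rw [← G.assoc (pullback.fst G.s G.t ≫ G.i) (pullback.fst G.s G.t) (pullback.snd G.s G.t)
        (by rw [Category.assoc, G.i_s]) pullback.condition]
      refine (GrpdLib.c_congr G _ (G.i_comp _) rfl).trans ((GrpdLib.c_congr G _ ?_ rfl).trans (G.e_comp _))
      rw [pullback.condition_assoc]
  exact (IsPullback.of_hasPullback G.t G.t).of_iso ⟨inv, hom, h1, h2⟩ (Iso.refl _) (Iso.refl _)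
    (Iso.refl _) (by
      simp only [Iso.refl_hom, Category.comp_id]
      rw [← Category.id_comp (pullback.fst G.t G.t), ← h1, Category.assoc, pullback.lift_fst])
    (by simp [inv]) (by simp) (by simp)

end Groth.Agent.GrpdFld
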