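import Mathlib.RingTheory.Spectrum.Prime.Chevalley
import Mathlib.RingTheory.FiniteType
import Mathlib.FieldTheory.IsAlgClosed.AlgebraicClosure
import Mathlib.RingTheory.Algebraic.Integral
import Mathlib.RingTheory.Polynomial.Cyclotomic.Roots
import Groth.Agent.VarDim.IrredFibres

/-!
# A subfield of a finitely generated domain is algebraic over the base field
-/

universe u v w

open Polynomial

namespace Groth.Agent.GrpdFld

variable {k : Type u} [Field k] {A : Type u} [CommRing A] [IsDomain A]
  [Algebra k A] [Algebra.FiniteType k A]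

/-- An element `x` such that all `x ^ n - 1` are units is algebraic. -/
theorem isAlgebraic_of_isUnit_pow_sub_one (x : A) (hx : ∀ n : ℕ, 0 < n → IsUnit (x ^ n - 1)) :
    IsAlgebraic k x := by
  by_contra hx'
  have hinj : Function.Injective (aeval (R := k) x) := transcendental_iff_injective.mp hx'
  let φ : k[X] →+* A := (aeval (R := k) x).toRingHom
  have hft : φ.FiniteType := by
    refine RingHom.FiniteType.of_comp_finiteType (f := Polynomial.C) ?_
    have : φ.comp Polynomial.C = algebraMap k A := RingHom.ext fun c => aeval_C _ c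
    rw [this]
    exact RingHom.finiteType_algebraMap.2 ‹_›
  have hfp : φ.FinitePresentation := RingHom.FinitePresentation.of_finiteType.mp hft
  let η : PrimeSpectrum k[X] := ⟨⊥, Ideal.isPrime_bot⟩
  have hη : η ∈ Set.range (PrimeSpectrum.comap φ) :=
    ⟨⟨⊥, Ideal.isPrime_bot⟩, PrimeSpectrum.ext ((RingHom.ker_eq_comap_bot φ).symm.trans
      ((RingHom.injective_iff_ker_eq_bot φ).mp hinj))⟩
  have hnhds := (Groth.Agent.VarDim.mem_nhds_of_isConstructible (η := η)
    (fun P => (PrimeSpectrum.le_iff_specializes η P).mp bot_le)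
    (PrimeSpectrum.isConstructible_range_comap hfp)).1 hη
  obtain ⟨_, ⟨f, rfl⟩, hηf, hsub⟩ :=
    PrimeSpectrum.isTopologicalBasis_basic_opens.mem_nhds_iff.mp hnhds
  have hf0 : f ≠ 0 := by
    rintro rfl
    simp at hηf
  obtain ⟨n, hn, hnp⟩ : ∃ n, f.natDegree < n ∧ (n : k) ≠ 0 := by
    rcases CharP.exists k with ⟨c, hc⟩
    obtain ⟨n, hn, hnp⟩ := Nat.exists_infinite_primes (f.natDegree + c + 1)
    refine ⟨n, by omega, fun h => ?_⟩
    rw [CharP.cast_eq_zero_iff k c] at h
    rcases hnp.eq_one_or_self_of_dvd c h with h1 | h1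
    · exact CharP.char_ne_one k c h1
    · omega
  obtain ⟨ζ, hζ⟩ : ∃ ζ : AlgebraicClosure k, IsPrimitiveRoot ζ n := by
    have : NeZero (n : AlgebraicClosure k) := ⟨by
      simpa using (map_ne_zero (algebraMap k (AlgebraicClosure k))).mpr hnp⟩
    obtain ⟨ζ, hζ⟩ := IsAlgClosed.exists_root (cyclotomic n (AlgebraicClosure k))
      (by rw [degree_cyclotomic]; exact_mod_cast (Nat.totient_pos.mpr (by omega)).ne')
    exact ⟨ζ, isRoot_cyclotomic_iff.mp hζ⟩
  have hroot : ∀ i < n, ζ ^ i ∈ f.aroots (AlgebraicClosure k) := by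
    intro i _
    rw [mem_aroots]
    refine ⟨hf0, ?_⟩
    by_contra hfi
    let ev := (aeval (R := k) (ζ ^ i)).toRingHom
    let P : PrimeSpectrum k[X] := ⟨RingHom.ker ev, RingHom.ker_isPrime _⟩
    have hP : P ∈ PrimeSpectrum.basicOpen f := fun h => hfi h
    obtain ⟨Q, hQ⟩ := hsub hP
    have hmem : (Polynomial.X ^ n - 1 : k[X]) ∈ P.asIdeal := by
      show ev _ = 0
      show aeval (ζ ^ i) (Polynomial.X ^ n - 1 : k[X]) = 0
      rw [map_sub, map_pow, aeval_X, map_one, pow_right_comm, hζ.pow_eq_one, one_pow, sub_self]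
    rw [← hQ] at hmem
    have : φ (Polynomial.X ^ n - 1) = x ^ n - 1 := by simp [φ]
    exact Q.isPrime.ne_top (Ideal.eq_top_of_isUnit_mem _ (this ▸ hmem) (hx n (by omega)))
  classical
  have hcard : n ≤ (f.aroots (AlgebraicClosure k)).toFinset.card :=
    calc n = ((Finset.range n).image (ζ ^ ·)).card := by
          rw [Finset.card_image_of_injOn (fun i hi j hj h => hζ.pow_inj (Finset.mem_range.mp hi)
            (Finset.mem_range.mp hj) h), Finset.card_range]
      _ ≤ _ := Finset.card_le_card (by
          intro z hz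
          obtain ⟨i, hi, rfl⟩ := Finset.mem_image.mp hz
          exact Multiset.mem_toFinset.mpr (hroot i (Finset.mem_range.mp hi)))
  have h2 := (Multiset.toFinset_card_le _).trans (card_roots' (f.map (algebraMap k (AlgebraicClosure k))))
  rw [natDegree_map] at h2
  rw [aroots] at hcard
  omega

/-- A subfield of a finitely generated domain is algebraic over the base field. -/
theorem isAlgebraic_of_field {K : Type w} [Field K] (τ : K →+* A) (a : K) : IsAlgebraic k (τ a) := by
  by_cases h : ∃ n, 0 < n ∧ a ^ n = 1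
  · obtain ⟨n, hn, hn'⟩ := h
    refine ⟨Polynomial.X ^ n - 1, ?_, by rw [map_sub, map_pow, aeval_X, map_one, ← map_pow, hn', map_one, sub_self]⟩
    exact (monic_X_pow_sub_C (1 : k) hn.ne').ne_zero
  · refine isAlgebraic_of_isUnit_pow_sub_one _ fun n hn => ?_
    rw [← map_pow, ← map_one τ, ← map_sub]
    exact (isUnit_iff_ne_zero.mpr (sub_ne_zero.mpr fun he => h ⟨n, hn, he⟩)).map τ

/-- A field in a finitely generated domain which agrees with the base field at one point
agrees with it everywhere. -/
theorem eq_algebraMap_of_point (τ : k →+* A) {L : Type w} [CommRing L] [Nontrivial L] (χ : A →+* L)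
    (h : ∀ a, χ (τ a) = χ (algebraMap k A a)) : τ = algebraMap k A := by
  ext a
  by_contra hne
  have hd : IsAlgebraic k (τ a - algebraMap k A a) :=
    (isAlgebraic_of_field τ a).sub (isAlgebraic_algebraMap a)
  obtain ⟨r, hr, hdvd⟩ := hd.exists_nonzero_dvd (mem_nonZeroDivisors_of_ne_zero (sub_ne_zero.mpr hne))
  have hu : IsUnit (τ a - algebraMap k A a) :=
    isUnit_of_dvd_unit hdvd ((isUnit_iff_ne_zero.mpr hr).map _)
  have := hu.map χ
  rw [map_sub, h, sub_self] at this
  exact not_isUnit_zero this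

end Groth.Agent.GrpdFld
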