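import Groth.Agent.GrpdFld.Translate
import Groth.Agent.GrpSchLib.FieldTop
import Groth.Agent.H23.RedSub
import Mathlib.AlgebraicGeometry.Morphisms.UniversallyOpen

/-!
# Irreducible components of groupoids over fields
-/

set_option backward.isDefEq.respectTransparency false
set_option backward.isDefEq.respectTransparency.types false

universe u

open CategoryTheory CategoryTheory.Limits AlgebraicGeometry Grpd
open Groth.Agent.GrpSchLib (IsMaxPt UniComp exists_isMaxPt)

noncomputable section

namespace Groth.Agent.GrpdFld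

variable {S : Scheme.{u}}

theorem flat_to_field {T : Scheme.{u}} {k : Type u} [Field k] {U : Scheme.{u}}
    (eU : U ≅ Spec (CommRingCat.of k)) (x : T ⟶ U) : Flat x := by
  have : Nonempty U := ⟨eU.inv (IsLocalRing.closedPoint k)⟩
  have : IsIntegral U := isIntegral_of_isOpenImmersion eU.hom
  have : Subsingleton U := eU.hom.homeomorph.subsingleton
  infer_instance

theorem universallyOpen_to_field {T : Scheme.{u}} {k : Type u} [Field k] {U : Scheme.{u}}
    (eU : U ≅ Spec (CommRingCat.of k)) (x : T ⟶ U) : UniversallyOpen x := by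
  have : Nonempty U := ⟨eU.inv (IsLocalRing.closedPoint k)⟩
  have : IsIntegral U := isIntegral_of_isOpenImmersion eU.hom
  have : Subsingleton U := eU.hom.homeomorph.subsingleton
  infer_instance

/-- A reduced closed subscheme with a given underlying set. -/
theorem exists_closed_range_eq {X : Scheme.{u}} (A : Set X) (hA : IsClosed A) :
    ∃ (Z : Scheme.{u}) (ι : Z ⟶ X), IsClosedImmersion ι ∧ Set.range ι = A ∧ IsReduced Z := by
  refine ⟨_, (Scheme.IdealSheafData.vanishingIdeal ⟨A, hA⟩).subschemeι, inferInstance,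
    (Scheme.IdealSheafData.range_subschemeι _).trans
      (Scheme.IdealSheafData.coe_support_vanishingIdeal _), H23.RedSub.isReduced_vanishingIdeal _⟩

theorem irreducibleSpace_of_range {Z X : Scheme.{u}} (ι : Z ⟶ X) [IsClosedImmersion ι]
    (h : IsIrreducible (Set.range ι)) : IrreducibleSpace Z := by
  have hc : IsClosed (Set.range ι) := ι.isClosedEmbedding.isClosed_range
  obtain ⟨t₀, ht₀⟩ : h.genericPoint ∈ Set.range ι := (h.isGenericPoint_genericPoint hc).mem
  have : closure ({t₀} : Set Z) = Set.univ := Set.eq_univ_of_forall fun t =>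
    (ι.isClosedEmbedding.isInducing.specializes_iff.mp
      (ht₀ ▸ (h.isGenericPoint_genericPoint hc).specializes ⟨t, rfl⟩)).mem_closure
  rw [irreducibleSpace_def, Set.top_eq_univ, ← this]
  exact isIrreducible_singleton.closure

theorem uniComp_e (H : GroupoidScheme S) (Ω : Type u) [Field Ω] [IsAlgClosed Ω]
    (eH : H.U ≅ Spec (CommRingCat.of Ω)) (z : H.U) {a b : H.R} (ha : a ⤳ H.e z) (hb : b ⤳ H.e z) :
    ∃ c, c ⤳ a ∧ c ⤳ b := by
  have hsub : Subsingleton H.U := eH.hom.homeomorph.subsingleton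
  obtain ⟨A, ι, hι, hιr, -⟩ := exists_closed_range_eq (closure {a}) isClosed_closure
  obtain ⟨B, ι', hι', hι'r, -⟩ := exists_closed_range_eq (closure {b}) isClosed_closure
  have := irreducibleSpace_of_range ι (hιr ▸ isIrreducible_singleton.closure)
  have := irreducibleSpace_of_range ι' (hι'r ▸ isIrreducible_singleton.closure)
  have := GrpSchLib.geometricallyIrreducible_of_isAlgClosed (ι ≫ H.s ≫ eH.hom)
  have := universallyOpen_to_field (Iso.refl _) (ι ≫ H.s ≫ eH.hom)
  let m : pullback (ι ≫ H.s ≫ eH.hom) (ι' ≫ H.t ≫ eH.hom) ⟶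
      pullback (H.s ≫ eH.hom) (H.t ≫ eH.hom) :=
    pullback.map _ _ _ _ ι ι' (𝟙 _) (by simp) (by simp)
  let κ : pullback (H.s ≫ eH.hom) (H.t ≫ eH.hom) ⟶ pullback H.s H.t :=
    pullback.lift (pullback.fst _ _) (pullback.snd _ _) (by
      rw [← cancel_mono eH.hom, Category.assoc, Category.assoc]; exact pullback.condition)
  have hirr : IsIrreducible (Set.range ⇑(m ≫ κ ≫ H.c)) := by
    rw [← Set.image_univ]
    exact (IrreducibleSpace.isIrreducible_univ _).image _ (m ≫ κ ≫ H.c).continuous.continuousOn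
  have hgen := hirr.closure.isGenericPoint_genericPoint isClosed_closure
  have hmem : ∀ (f : H.R ⟶ pullback (H.s ≫ eH.hom) (H.t ≫ eH.hom)) (r : H.R),
      (f ≫ pullback.fst _ _) r ∈ closure {a} → (f ≫ pullback.snd _ _) r ∈ closure {b} →
      f ≫ κ ≫ H.c = 𝟙 _ → hirr.closure.genericPoint ⤳ r := by
    intro f r h₁ h₂ h₃
    obtain ⟨p, hp⟩ : f r ∈ Set.range m := by
      rw [Scheme.Pullback.range_map, hιr, hι'r]
      exact ⟨h₁, h₂⟩
    refine hgen.specializes (subset_closure ⟨p, ?_⟩)
    rw [Scheme.Hom.comp_apply, hp, ← Scheme.Hom.comp_apply, h₃]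
    rfl
  refine ⟨hirr.closure.genericPoint,
    hmem (pullback.lift (𝟙 _) (H.s ≫ H.e) (by simp [reassoc_of% H.e_t])) a ?_ ?_ ?_,
    hmem (pullback.lift (H.t ≫ H.e) (𝟙 _) (by simp [reassoc_of% H.e_s])) b ?_ ?_ ?_⟩
  · rw [pullback.lift_fst]; exact subset_closure rfl
  · rw [pullback.lift_snd, Scheme.Hom.comp_apply, Subsingleton.elim (H.s a) z]
    exact hb.mem_closure
  · refine Eq.trans ?_ (H.comp_e (𝟙 _))
    rw [← Category.assoc]
    congr 1
    apply pullback.hom_ext <;> simp [κ]
  · rw [pullback.lift_fst, Scheme.Hom.comp_apply, Subsingleton.elim (H.t b) z]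
    exact ha.mem_closure
  · rw [pullback.lift_snd]; exact subset_closure rfl
  · refine Eq.trans ?_ (H.e_comp (𝟙 _))
    rw [← Category.assoc]
    congr 1
    apply pullback.hom_ext <;> simp [κ]

variable (G : GroupoidScheme S) (k : Type u) [Field k] (eU : G.U ≅ Spec (CommRingCat.of k))

include eU in
theorem uniComp_srcFib {L : Type u} [Field L] (x : Spec (CommRingCat.of L) ⟶ G.U) :
    UniComp ↥(srcFib G x) := by
  intro z a b ha hb
  let Ω := AlgebraicClosure ((srcFib G x).residueField z)
  let ζ : Spec (CommRingCat.of Ω) ⟶ srcFib G x :=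
    Spec.map (CommRingCat.ofHom (algebraMap ((srcFib G x).residueField z) Ω)) ≫
      (srcFib G x).fromSpecResidueField z
  have hζ : ∀ w, ζ w = z := fun w => Scheme.fromSpecResidueField_apply z _
  let π := ζ ≫ pullback.snd G.s x
  let ρ := ζ ≫ pullback.fst G.s x
  let q : srcFib G (π ≫ x) ⟶ srcFib G x :=
    pullback.lift (pullback.fst _ _) (pullback.snd _ _ ≫ π)
      (by rw [pullback.condition]; simp only [π, Category.assoc])
  have hq : IsPullback q (pullback.snd G.s (π ≫ x)) (pullback.snd G.s x) π := by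
    refine IsPullback.of_right ?_ (pullback.lift_snd _ _ _) (IsPullback.of_hasPullback G.s x).flip.flip
    rw [pullback.lift_fst]
    exact IsPullback.of_hasPullback _ _
  have := flat_to_field (Iso.refl (Spec (CommRingCat.of L))) π
  have : Flat q := MorphismProperty.of_isPullback (P := @Flat) hq.flip inferInstance
  have hρ : ρ ≫ G.s = π ≫ x := by simp [ρ, π, pullback.condition]
  let p := arrSec G ρ hρ
  have hp : p ≫ q = ζ := by
    apply pullback.hom_ext <;> simp [p, q, π, ρ]
  let y := ρ ≫ G.t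
  obtain ⟨φ, -, hφ, -⟩ := exists_trans G ρ hρ (y := y) rfl
  have : Flat (pbToFib G y) :=
    MorphismProperty.of_isPullback (P := @Flat) (isPullback_pbToFib G y).flip (flat_to_field eU y)
  let H := GrpdLib.pullBackGrpd G y
  let w : Spec (CommRingCat.of Ω) := IsLocalRing.closedPoint Ω
  let ψ := pbToFib G y ≫ φ.inv ≫ q
  have hψ : ψ (H.e w) = z := by
    show (GrpdLib.pbE G y ≫ pbToFib G y ≫ φ.inv ≫ q) w = z
    rw [← Category.assoc, pbE_toFib, ← hφ, Category.assoc, φ.hom_inv_id_assoc, hp, hζ]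
  have hgm : GeneralizingMap ψ := Flat.generalizingMap ψ
  rw [← hψ] at ha hb
  obtain ⟨a', ha', rfl⟩ := hgm ha
  obtain ⟨b', hb', rfl⟩ := hgm hb
  obtain ⟨c, hca, hcb⟩ := uniComp_e H Ω (Iso.refl _) w ha' hb'
  exact ⟨ψ c, hca.map ψ.continuous, hcb.map ψ.continuous⟩

include eU in
theorem uniComp : UniComp G.R := by
  intro z a b ha hb
  let h := (pullback.fst G.s eU.inv).homeomorph
  obtain ⟨z, rfl⟩ := h.surjective z
  obtain ⟨a, rfl⟩ := h.surjective a
  obtain ⟨b, rfl⟩ := h.surjective b
  obtain ⟨c, h₁, h₂⟩ := uniComp_srcFib G k eU eU.inv z a b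
    (h.isInducing.specializes_iff.mp ha) (h.isInducing.specializes_iff.mp hb)
  exact ⟨h c, h₁.map h.continuous, h₂.map h.continuous⟩

/-- The point of an object scheme which is the spectrum of a field. -/
abbrev pt : G.U := eU.inv (IsLocalRing.closedPoint k)

theorem minimalPrimes_stalk_subsingleton_of_uniComp {X : Scheme.{u}} (h : UniComp X) (x : X) :
    (minimalPrimes (X.presheaf.stalk x)).Subsingleton := by
  intro p hp q hq
  let P : Spec (X.presheaf.stalk x) := ⟨p, hp.1.1⟩
  let Q : Spec (X.presheaf.stalk x) := ⟨q, hq.1.1⟩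
  have hP : X.fromSpecStalk x P ⤳ x := by
    have : X.fromSpecStalk x P ∈ Set.range (X.fromSpecStalk x) := ⟨P, rfl⟩
    rwa [Scheme.range_fromSpecStalk] at this
  have hQ : X.fromSpecStalk x Q ⤳ x := by
    have : X.fromSpecStalk x Q ∈ Set.range (X.fromSpecStalk x) := ⟨Q, rfl⟩
    rwa [Scheme.range_fromSpecStalk] at this
  obtain ⟨c, hcP, hcQ⟩ := h x _ _ hP hQ
  obtain ⟨R, rfl⟩ : c ∈ Set.range (X.fromSpecStalk x) := by
    rw [Scheme.range_fromSpecStalk]; exact hcP.trans hP
  have h1 : R.asIdeal ≤ p := (PrimeSpectrum.le_iff_specializes R P).mpr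
    ((X.fromSpecStalk x).isEmbedding.isInducing.specializes_iff.mp hcP)
  have h2 : R.asIdeal ≤ q := (PrimeSpectrum.le_iff_specializes R Q).mpr
    ((X.fromSpecStalk x).isEmbedding.isInducing.specializes_iff.mp hcQ)
  exact (h1.antisymm (hp.2 ⟨R.isPrime, bot_le⟩ h1)).symm.trans
    (h2.antisymm (hq.2 ⟨R.isPrime, bot_le⟩ h2))

theorem closure_mem_irreducibleComponents {X : Scheme.{u}} {g : X} (hg : IsMaxPt g) :
    closure {g} ∈ irreducibleComponents X := by
  refine ⟨isIrreducible_singleton.closure, fun Z hZ hgZ => ?_⟩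
  have hgen := hZ.closure.isGenericPoint_genericPoint isClosed_closure
  have : hZ.closure.genericPoint = g :=
    hg _ (hgen.specializes (subset_closure (hgZ (subset_closure rfl))))
  intro z hz
  rw [← this]
  exact (hgen.specializes (subset_closure hz)).mem_closure

theorem exists_eq_closure {X : Scheme.{u}} {Z : Set X} (hZ : Z ∈ irreducibleComponents X) :
    ∃ g, IsMaxPt g ∧ Z = closure {g} := by
  have hgen := hZ.1.isGenericPoint_genericPoint (isClosed_of_mem_irreducibleComponents Z hZ)
  exact ⟨_, fun d => Groth.Agent.FDescent.eq_of_specializes_of_mem hZ hgen, hgen.def.symm⟩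

theorem eq_closure_of_mem_component {X : Scheme.{u}} (h : UniComp X) {g x : X} (hg : IsMaxPt g)
    (hgx : g ⤳ x) {Z : Set X} (hZ : Z ∈ irreducibleComponents X) (hx : x ∈ Z) : Z = closure {g} := by
  obtain ⟨g', hg', rfl⟩ := exists_eq_closure hZ
  rw [hg.eq h hg' hgx (specializes_iff_mem_closure.mpr hx)]

end Groth.Agent.GrpdFld
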