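import Groth.Agent.GrpdFld.Algebraic
import Groth.Agent.GrpdFld.Irred
import Mathlib.AlgebraicGeometry.Morphisms.FiniteType

/-!
# The component of the identity consists of loops, set-theoretically
-/

set_option backward.isDefEq.respectTransparency false
set_option backward.isDefEq.respectTransparency.types false

universe u

open CategoryTheory CategoryTheory.Limits AlgebraicGeometry Grpd

noncomputable section

namespace Groth.Agent.GrpdFld

variable {S : Scheme.{u}} (G : GroupoidScheme S) (k : Type u) [Field k]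
  (eU : G.U ≅ Spec (CommRingCat.of k))

include eU in
theorem isClosedImmersion_stabι : IsClosedImmersion (GrpdLib.stabι G) := by
  have : IsAffine G.U := IsAffine.of_isIso eU.hom
  have : IsSeparated (G.pU ≫ terminal.from S) := by
    rw [terminal.hom_ext (G.pU ≫ terminal.from S) (terminal.from G.U)]
    infer_instance
  have : IsSeparated G.pU := IsSeparated.of_comp G.pU (terminal.from S)
  have : IsClosedImmersion G.diag := inferInstanceAs (IsClosedImmersion (pullback.diagonal G.pU))
  exact inferInstanceAs (IsClosedImmersion (pullback.fst G.j G.diag))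

theorem mem_range_stabι_of_specializes [LocallyOfFiniteType G.s] {g : G.R}
    (hg : g ⤳ G.e (pt G k eU)) : g ∈ Set.range (GrpdLib.stabι G) := by
  have hsub : Subsingleton G.U := eU.hom.homeomorph.subsingleton
  obtain ⟨V, hV, heV, -⟩ := exists_isAffineOpen_mem_and_subset
    (show G.e (pt G k eU) ∈ (⊤ : G.R.Opens) from trivial)
  set B : CommRingCat := Γ(G.R, V)
  obtain ⟨p, hp⟩ : g ∈ Set.range hV.fromSpec := by
    rw [hV.range_fromSpec]; exact hg.mem_open V.2 heV
  let ε : Spec (CommRingCat.of k) ⟶ G.R := eU.inv ≫ G.e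
  have hrange : Set.range ε ⊆ Set.range hV.fromSpec := by
    rintro _ ⟨(w : Spec (CommRingCat.of k)), rfl⟩
    rw [hV.range_fromSpec, show ε w = G.e (pt G k eU) from
      congrArg G.e (Subsingleton.elim (eU.inv w) _)]
    exact heV
  obtain ⟨q, hq⟩ := Spec.map_surjective (IsOpenImmersion.lift hV.fromSpec ε hrange)
  have hqε : Spec.map q ≫ hV.fromSpec = ε := by rw [hq]; exact IsOpenImmersion.lift_fac ..
  obtain ⟨φs, hφs⟩ := Spec.map_surjective (hV.fromSpec ≫ G.s ≫ eU.hom)
  obtain ⟨φt, hφt⟩ := Spec.map_surjective (hV.fromSpec ≫ G.t ≫ eU.hom)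
  have hs1 : φs ≫ q = 𝟙 _ := Spec.map_injective (by
    rw [Spec.map_comp, hφs, reassoc_of% hqε, Spec.map_id]
    simp [ε, reassoc_of% G.e_s])
  have ht1 : φt ≫ q = 𝟙 _ := Spec.map_injective (by
    rw [Spec.map_comp, hφt, reassoc_of% hqε, Spec.map_id]
    simp [ε, reassoc_of% G.e_t])
  have hle : p.asIdeal ≤ RingHom.ker q.hom := by
    let w : Spec (CommRingCat.of k) := IsLocalRing.closedPoint k
    have h1 : p ⤳ Spec.map q w := by
      refine hV.fromSpec.isOpenEmbedding.isInducing.specializes_iff.mp ?_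
      rw [hp, ← Scheme.Hom.comp_apply, hqε]
      rwa [show ε w = G.e (pt G k eU) from congrArg G.e (Subsingleton.elim (eU.inv w) _)]
    refine le_trans (show p.asIdeal ≤ (Spec.map q w).asIdeal from
      (PrimeSpectrum.le_iff_specializes _ _).mpr h1) (le_of_eq ?_)
    show Ideal.comap q.hom (IsLocalRing.maximalIdeal k) = _
    rw [IsLocalRing.isField_iff_maximalIdeal_eq.mp (Field.toIsField k)]
    rfl
  let A := B ⧸ p.asIdeal
  let mk : B ⟶ CommRingCat.of A := CommRingCat.ofHom (Ideal.Quotient.mk p.asIdeal)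
  let : Algebra k A := ((Ideal.Quotient.mk p.asIdeal).comp φs.hom).toAlgebra
  have : Algebra.FiniteType k A := by
    have h : LocallyOfFiniteType (Spec.map φs) := hφs ▸ inferInstance
    exact RingHom.finiteType_algebraMap.1
      ((RingHom.FiniteType.of_surjective _ Ideal.Quotient.mk_surjective).comp
        ((HasRingHomProperty.Spec_iff (P := @LocallyOfFiniteType)).mp h))
  have : p.asIdeal.IsPrime := p.isPrime
  have heq := eq_algebraMap_of_point ((Ideal.Quotient.mk p.asIdeal).comp φt.hom)
    (Ideal.Quotient.lift p.asIdeal q.hom fun b hb => hle hb) fun a => by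
      show q.hom (φt.hom a) = q.hom (φs.hom a)
      exact (congrArg (fun f => f.hom a) ht1).trans (congrArg (fun f => f.hom a) hs1).symm
  let f : Spec (CommRingCat.of A) ⟶ G.R := Spec.map mk ≫ hV.fromSpec
  have hf : f ≫ G.t = f ≫ G.s := by
    rw [← cancel_mono eU.hom, Category.assoc, Category.assoc]
    simp only [f, Category.assoc]
    rw [← hφt, ← hφs, ← Spec.map_comp, ← Spec.map_comp]
    exact congrArg Spec.map (CommRingCat.hom_ext heq)
  obtain ⟨z, hz, -⟩ := GrpdLib.exists_stab_lift G f hf
  refine ⟨z ⟨⊥, Ideal.isPrime_bot⟩, ?_⟩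
  rw [← Scheme.Hom.comp_apply, hz, Scheme.Hom.comp_apply, ← hp]
  refine congrArg hV.fromSpec (PrimeSpectrum.ext ?_)
  show Ideal.comap (Ideal.Quotient.mk p.asIdeal) ⊥ = p.asIdeal
  exact Ideal.mk_ker

end Groth.Agent.GrpdFld
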