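import Groth.Agent.GrpdFld.SubGrpd
import Groth.Agent.GrpSchLib.FieldReduced

/-!
# Closures of images of morphisms of groupoids over a field
-/

set_option backward.isDefEq.respectTransparency false
set_option backward.isDefEq.respectTransparency.types false

universe u

open CategoryTheory CategoryTheory.Limits AlgebraicGeometry Grpd

noncomputable section

namespace Groth.Agent.GrpdFld

variable {S : Scheme.{u}}

/-- A morphism from a reduced scheme with image inside a closed subscheme factors through it. -/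
theorem exists_lift_of_isReduced {T Z X : Scheme.{u}} (ι : Z ⟶ X) [IsClosedImmersion ι] [IsReduced T]
    (g : T ⟶ X) (h : Set.range g ⊆ Set.range ι) : ∃ l : T ⟶ Z, l ≫ ι = g := by
  have : Surjective (pullback.fst g ι) := ⟨fun x => by
    obtain ⟨z, hz⟩ := h ⟨x, rfl⟩
    obtain ⟨w, hw, -⟩ := Scheme.Pullback.exists_preimage_pullback (f := g) (g := ι) x z hz.symm
    exact ⟨w, hw⟩⟩
  have : IsIso (pullback.fst g ι) := isIso_of_isClosedImmersion_of_surjective _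
  exact ⟨inv (pullback.fst g ι) ≫ pullback.snd g ι, by simp [← pullback.condition]⟩

/-- Products of dense morphisms over a one-point base are dense. -/
theorem denseRange_map {A B X Y U : Scheme.{u}} (f : A ⟶ X) (g : B ⟶ Y) (a : X ⟶ U) (b : Y ⟶ U)
    [UniversallyOpen a] [UniversallyOpen b] [UniversallyOpen (f ≫ a)]
    (hf : DenseRange f) (hg : DenseRange g) :
    DenseRange (pullback.map (f ≫ a) (g ≫ b) a b f g (𝟙 U) (by simp) (by simp)) := by
  let m₁ : pullback (f ≫ a) (g ≫ b) ⟶ pullback (f ≫ a) b :=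
    pullback.map _ _ _ _ (𝟙 A) g (𝟙 U) (by simp) (by simp)
  let m₂ : pullback (f ≫ a) b ⟶ pullback a b :=
    pullback.map _ _ _ _ f (𝟙 Y) (𝟙 U) (by simp) (by simp)
  have h₁ : DenseRange m₁ := by
    rw [DenseRange, Scheme.Pullback.range_map]
    simpa using hg.preimage (pullback.snd (f ≫ a) b).isOpenMap
  have h₂ : DenseRange m₂ := by
    rw [DenseRange, Scheme.Pullback.range_map]
    simpa using hf.preimage (pullback.fst a b).isOpenMap
  have e : m₁ ≫ m₂ = pullback.map (f ≫ a) (g ≫ b) a b f g (𝟙 U) (by simp) (by simp) := by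
    apply pullback.hom_ext <;> simp [m₁, m₂]
  rw [← e]
  exact h₂.comp h₁ m₂.continuous

variable {G₁ G₂ : GroupoidScheme S} (f : GroupoidScheme.Hom G₁ G₂) [IsIso f.fU]
  (k : Type u) [Field k] (eU : G₂.U ≅ Spec (CommRingCat.of k))

/-- The source-target compatibility of a pair coming from `G₁`. -/
theorem composable_of_map {T : Scheme.{u}} {α β : T ⟶ G₁.R}
    (h : (α ≫ f.fR) ≫ G₂.s = (β ≫ f.fR) ≫ G₂.t) : α ≫ G₁.s = β ≫ G₁.t := by
  rw [← cancel_mono f.fU, Category.assoc, Category.assoc, ← f.comm_s, ← f.comm_t]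
  simpa only [Category.assoc] using h

theorem range_e_subset : Set.range ⇑G₂.e ⊆ Set.range ⇑f.fR := by
  rintro _ ⟨x, rfl⟩
  refine ⟨G₁.e (inv f.fU x), ?_⟩
  rw [← Scheme.Hom.comp_apply G₁.e, GrpdLib.hom_comm_e, ← Scheme.Hom.comp_apply,
    IsIso.inv_hom_id_assoc]

omit [IsIso f.fU] in
theorem mem_closure_i {r : G₂.R} (hr : r ∈ closure (Set.range ⇑f.fR)) :
    G₂.i r ∈ closure (Set.range ⇑f.fR) :=
  map_mem_closure G₂.i.continuous hr fun x ⟨y, hy⟩ => ⟨G₁.i y, by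
    rw [← Scheme.Hom.comp_apply, hom_comm_i, Scheme.Hom.comp_apply, hy]⟩

include eU in
theorem mem_closure_c (p : ↥(pullback G₂.s G₂.t))
    (h₁ : pullback.fst G₂.s G₂.t p ∈ closure (Set.range ⇑f.fR))
    (h₂ : pullback.snd G₂.s G₂.t p ∈ closure (Set.range ⇑f.fR)) :
    G₂.c p ∈ closure (Set.range ⇑f.fR) := by
  obtain ⟨Z, ι, hι, hιr, hZ⟩ := exists_closed_range_eq (closure (Set.range ⇑f.fR)) isClosed_closure
  obtain ⟨A, ν, hν, hνr, hA⟩ := exists_closed_range_eq (X := G₁.R) Set.univ isClosed_univ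
  obtain ⟨a, ha⟩ := exists_lift_of_isReduced ι (ν ≫ f.fR) (by
    rw [hιr]; exact (Set.range_comp_subset_range ν f.fR).trans subset_closure)
  have had : DenseRange a := by
    rw [DenseRange, dense_iff_closure_eq, ι.isClosedEmbedding.isEmbedding.closure_eq_preimage_closure_image,
      ← Set.range_comp, ← TopCat.coe_comp, ← Scheme.Hom.comp_base, ha, Scheme.Hom.comp_base,
      TopCat.coe_comp, Set.range_comp, hνr, Set.image_univ, ← hιr, Set.preimage_range]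
  have := universallyOpen_to_field eU (ι ≫ G₂.s)
  have := universallyOpen_to_field eU (ι ≫ G₂.t)
  have := universallyOpen_to_field eU (a ≫ ι ≫ G₂.s)
  obtain ⟨q, rfl⟩ : p ∈ Set.range ⇑(subPairs G₂ ι) := by
    rw [subPairs, Scheme.Pullback.range_map, hιr]; exact ⟨h₁, h₂⟩
  have hd := denseRange_map a a (ι ≫ G₂.s) (ι ≫ G₂.t) had had
  rw [← Scheme.Hom.comp_apply]
  refine map_mem_closure (subPairs G₂ ι ≫ G₂.c).continuous (hd q) ?_
  rintro _ ⟨w, rfl⟩
  let α := pullback.fst (a ≫ ι ≫ G₂.s) (a ≫ ι ≫ G₂.t) ≫ ν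
  let β := pullback.snd (a ≫ ι ≫ G₂.s) (a ≫ ι ≫ G₂.t) ≫ ν
  have hab : α ≫ G₁.s = β ≫ G₁.t := composable_of_map f (by
    simp only [α, β, Category.assoc, ← reassoc_of% ha]; exact pullback.condition)
  refine ⟨(pullback.lift α β hab ≫ G₁.c) w, ?_⟩
  rw [← Scheme.Hom.comp_apply, f.comm_c, ← Scheme.Hom.comp_apply]
  refine congrArg (fun g => (g : _ ⟶ G₂.R) w) ?_
  rw [← Category.assoc _ _ G₂.c]
  congr 1
  apply pullback.hom_ext <;> simp [subPairs, α, β, ha]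

include eU in
theorem exists_reduced_closure [PerfectField k] :
    ∃ (G' : GroupoidScheme S) (ψ : GroupoidScheme.Hom G' G₂), IsIso ψ.fU ∧ IsClosedImmersion ψ.fR ∧
      IsReduced G'.R ∧ Set.range ⇑ψ.fR = closure (Set.range ⇑f.fR) := by
  obtain ⟨Z, ι, hι, hιr, hZ⟩ := exists_closed_range_eq (closure (Set.range ⇑f.fR)) isClosed_closure
  have : IsReduced G₂.U := isReduced_of_isOpenImmersion eU.hom
  obtain ⟨e', he⟩ := exists_lift_of_isReduced ι G₂.e (by
    rw [hιr]; exact (range_e_subset f).trans subset_closure)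
  obtain ⟨i', hi⟩ := exists_lift_of_isReduced ι (ι ≫ G₂.i) (by
    rw [hιr]
    rintro _ ⟨z, rfl⟩
    exact mem_closure_i f (hιr.subset ⟨z, rfl⟩))
  have : IsReduced (pullback (ι ≫ G₂.s) (ι ≫ G₂.t)) := by
    have := GrpSchLib.isReduced_pullback_of_perfectField (ι ≫ G₂.s ≫ eU.hom) (ι ≫ G₂.t ≫ eU.hom)
    exact isReduced_of_isOpenImmersion (pullback.map (ι ≫ G₂.s) (ι ≫ G₂.t) (ι ≫ G₂.s ≫ eU.hom)
      (ι ≫ G₂.t ≫ eU.hom) (𝟙 _) (𝟙 _) eU.hom (by simp) (by simp))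
  obtain ⟨c', hc⟩ := exists_lift_of_isReduced ι (subPairs G₂ ι ≫ G₂.c) (by
    rw [hιr]
    rintro _ ⟨w, rfl⟩
    refine mem_closure_c f k eU _ ?_ ?_
    · rw [← hιr]; exact ⟨pullback.fst (ι ≫ G₂.s) (ι ≫ G₂.t) w,
        (congrArg (fun g => (g : _ ⟶ G₂.R) w) (show subPairs G₂ ι ≫ pullback.fst G₂.s G₂.t =
          pullback.fst (ι ≫ G₂.s) (ι ≫ G₂.t) ≫ ι from pullback.lift_fst ..)).symm⟩
    · rw [← hιr]; exact ⟨pullback.snd (ι ≫ G₂.s) (ι ≫ G₂.t) w,
        (congrArg (fun g => (g : _ ⟶ G₂.R) w) (show subPairs G₂ ι ≫ pullback.snd G₂.s G₂.t =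
          pullback.snd (ι ≫ G₂.s) (ι ≫ G₂.t) ≫ ι from pullback.lift_snd ..)).symm⟩)
  exact ⟨_, subGrpdHom G₂ ι e' he i' hi c' hc, inferInstanceAs (IsIso (𝟙 G₂.U)), hι, hZ, hιr⟩

/-- A factorisation of `f` through the kernel of a closed immersion with the same kernel is
scheme-theoretically dominant. -/
theorem isSchDominant_of_ker_eq {T Z X : Scheme.{u}} (g : T ⟶ Z) (ι : Z ⟶ X) [IsClosedImmersion ι]
    (h : (g ≫ ι).ker = ι.ker) : IsSchemeTheoreticallyDominant g := by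
  refine ⟨?_⟩
  have h₁ : (g.ker.subschemeι ≫ ι).ker = ι.ker := by
    refine le_antisymm ?_ (Scheme.Hom.le_ker_comp _ _)
    rw [← h]
    conv_rhs => rw [← g.toImage_imageι, Category.assoc]
    exact Scheme.Hom.le_ker_comp _ _
  have := IsClosedImmersion.isIso_of_ker_eq (g.ker.subschemeι ≫ ι) ι g.ker.subschemeι rfl h₁
  exact (Scheme.isIso_subschemeι_iff_eq_bot _).mp this

theorem ker_le_of_schDominant {T T' X Z : Scheme.{u}} (q : T' ⟶ T) [IsSchemeTheoreticallyDominant q]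
    (g : T ⟶ X) (ι : Z ⟶ X) (g' : T' ⟶ Z) (h : g' ≫ ι = q ≫ g) : ι.ker ≤ g.ker := by
  have : (q ≫ g).ker = g.ker := by
    rw [Scheme.Hom.ker_comp, q.ker_eq_bot, Scheme.IdealSheafData.map_bot]
  rw [← this, ← h]
  exact Scheme.Hom.le_ker_comp _ _

include eU in
theorem exists_schImage [QuasiCompact f.fR] :
    ∃ (G' : GroupoidScheme S) (ψ : GroupoidScheme.Hom G' G₂) (φ : GroupoidScheme.Hom G₁ G'),
      G'.U = G₂.U ∧ IsIso ψ.fU ∧ IsClosedImmersion ψ.fR ∧ ψ.fR.ker = f.fR.ker ∧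
      IsIso φ.fU ∧ φ.fU ≫ ψ.fU = f.fU ∧ φ.fR ≫ ψ.fR = f.fR := by
  let ι := f.fR.imageι
  let a := f.fR.toImage
  have ha : a ≫ ι = f.fR := f.fR.toImage_imageι
  have hk : ι.ker = f.fR.ker := Scheme.IdealSheafData.ker_subschemeι _
  have : IsSchemeTheoreticallyDominant a := isSchDominant_of_ker_eq a ι (by rw [ha, hk])
  have : QuasiCompact a := inferInstanceAs (QuasiCompact f.fR.toImage)
  have hadom : ∀ {T : Scheme.{u}} (g : T ⟶ G₂.R) (q : T ⟶ G₁.R), q ≫ f.fR = g → ι.ker ≤ g.ker :=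
    fun g q hq => hq ▸ hk ▸ Scheme.Hom.le_ker_comp _ _
  let e' := IsClosedImmersion.lift ι G₂.e (hadom _ (inv f.fU ≫ G₁.e) (by
    rw [Category.assoc, GrpdLib.hom_comm_e, IsIso.inv_hom_id_assoc]))
  let i' := IsClosedImmersion.lift ι (ι ≫ G₂.i) (ker_le_of_schDominant a _ ι (G₁.i ≫ a) (by
    rw [Category.assoc, ha, hom_comm_i, ← reassoc_of% ha]))
  let m₁ : pullback (a ≫ ι ≫ G₂.s) (a ≫ ι ≫ G₂.t) ⟶ pullback (a ≫ ι ≫ G₂.s) (ι ≫ G₂.t) :=
    pullback.map _ _ _ _ (𝟙 _) a (𝟙 _) (by simp) (by simp)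
  let m₂ : pullback (a ≫ ι ≫ G₂.s) (ι ≫ G₂.t) ⟶ pullback (ι ≫ G₂.s) (ι ≫ G₂.t) :=
    pullback.map _ _ _ _ a (𝟙 _) (𝟙 _) (by simp) (by simp)
  have h₁ : IsSchemeTheoreticallyDominant m₁ := by
    have : Flat (pullback.snd (a ≫ ι ≫ G₂.s) (ι ≫ G₂.t)) :=
      MorphismProperty.pullback_snd (P := @Flat) _ _ (flat_to_field eU _)
    refine IsSchemeTheoreticallyDominant.of_isPullback (f := a)
      (g := pullback.snd (a ≫ ι ≫ G₂.s) (ι ≫ G₂.t)) (pX := pullback.snd _ _) ?_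
    refine IsPullback.of_bot ?_ (pullback.lift_snd _ _ _).symm
      (IsPullback.of_hasPullback (a ≫ ι ≫ G₂.s) (ι ≫ G₂.t)).flip
    simpa [m₁] using (IsPullback.of_hasPullback (a ≫ ι ≫ G₂.s) (a ≫ ι ≫ G₂.t)).flip
  have h₂ : IsSchemeTheoreticallyDominant m₂ := by
    have : Flat (pullback.fst (ι ≫ G₂.s) (ι ≫ G₂.t)) :=
      MorphismProperty.pullback_fst (P := @Flat) _ _ (flat_to_field eU _)
    refine IsSchemeTheoreticallyDominant.of_isPullback (f := a)
      (g := pullback.fst (ι ≫ G₂.s) (ι ≫ G₂.t)) (pX := pullback.fst _ _) ?_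
    refine IsPullback.of_bot ?_ (pullback.lift_fst _ _ _).symm
      (IsPullback.of_hasPullback (ι ≫ G₂.s) (ι ≫ G₂.t))
    simpa [m₂] using IsPullback.of_hasPullback (a ≫ ι ≫ G₂.s) (ι ≫ G₂.t)
  let α := pullback.fst (a ≫ ι ≫ G₂.s) (a ≫ ι ≫ G₂.t)
  let β := pullback.snd (a ≫ ι ≫ G₂.s) (a ≫ ι ≫ G₂.t)
  have hab : α ≫ G₁.s = β ≫ G₁.t := composable_of_map f (by
    simp only [α, β, Category.assoc, ← reassoc_of% ha]; exact pullback.condition)
  let c' := IsClosedImmersion.lift ι (subPairs G₂ ι ≫ G₂.c) (ker_le_of_schDominant (m₁ ≫ m₂) _ ι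
    ((pullback.lift α β hab ≫ G₁.c) ≫ a) (by
      rw [Category.assoc, ha, f.comm_c, ← Category.assoc _ _ G₂.c]
      congr 1
      apply pullback.hom_ext <;> simp [subPairs, α, β, m₁, m₂, ha]))
  have he : e' ≫ ι = G₂.e := IsClosedImmersion.lift_fac ..
  have hi : i' ≫ ι = ι ≫ G₂.i := IsClosedImmersion.lift_fac ..
  have hc : c' ≫ ι = subPairs G₂ ι ≫ G₂.c := IsClosedImmersion.lift_fac ..
  refine ⟨_, subGrpdHom G₂ ι e' he i' hi c' hc,
    { fU := f.fU, fR := a, fU_over := f.fU_over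
      comm_s := by show a ≫ ι ≫ G₂.s = _; rw [reassoc_of% ha, f.comm_s]
      comm_t := by show a ≫ ι ≫ G₂.t = _; rw [reassoc_of% ha, f.comm_t]
      comm_c := fun α β h => ?_ },
    rfl, inferInstanceAs (IsIso (𝟙 G₂.U)), inferInstanceAs (IsClosedImmersion ι), hk,
    inferInstance, Category.comp_id _, ha⟩
  show _ = pullback.lift (f := ι ≫ G₂.s) (g := ι ≫ G₂.t) _ _ _ ≫ c'
  refine (cancel_mono ι).mp ((Category.assoc _ _ _).trans ?_)
  refine ((congrArg _ ha).trans (f.comm_c α β h)).trans ?_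
  refine Eq.trans ?_ ((congrArg _ hc).symm.trans (Category.assoc _ _ _).symm)
  rw [← Category.assoc _ (subPairs G₂ ι)]
  congr 1
  apply pullback.hom_ext <;> simp [subPairs, ha]

end Groth.Agent.GrpdFld
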