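import Groth.Agent.GrpdFld.Anchor
import Groth.Agent.GrpSchLib.FieldDim
import Groth.Agent.VarDim.Top
import Groth.Prelude.Def_Flat
import Mathlib.AlgebraicGeometry.AlgClosed.Basic

/-!
# Dimension of a groupoid over a field
-/

set_option backward.isDefEq.respectTransparency false
set_option backward.isDefEq.respectTransparency.types false

universe u

open CategoryTheory CategoryTheory.Limits AlgebraicGeometry Grpd
open Groth.Agent.GrpSchLib (IsMaxPt UniComp exists_isMaxPt)

noncomputable section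

namespace Groth.Agent.GrpdFld

variable {S : Scheme.{u}} (G : GroupoidScheme S) (k : Type u) [Field k]
  (eU : G.U ≅ Spec (CommRingCat.of k))

/-- A point with values in an algebraically closed field through a closed point of a scheme of
finite type over it. -/
theorem exists_section {Ω : Type u} [Field Ω] [IsAlgClosed Ω] {X : Scheme.{u}}
    (f : X ⟶ Spec (CommRingCat.of Ω)) [LocallyOfFiniteType f] (z : X) (hz : IsClosed ({z} : Set X)) :
    ∃ t : Spec (CommRingCat.of Ω) ⟶ X, t ≫ f = 𝟙 _ ∧ ∀ w, t w = z := by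
  exact ⟨pointOfClosedPoint f z hz, pointOfClosedPoint_comp f z hz, pointOfClosedPoint_apply f z hz⟩

include eU in
theorem isIntegralHom_target [LocallyOfFiniteType G.s] [LocallyOfFiniteType G.t] {Ω : Type u} [Field Ω]
    (ρ : Spec (CommRingCat.of Ω) ⟶ G.R) [IsIntegralHom (ρ ≫ G.s)]
    (hρ : IsClosed ({ρ (IsLocalRing.closedPoint Ω)} : Set G.R)) : IsIntegralHom (ρ ≫ G.t) := by
  have : Subsingleton G.U := eU.hom.homeomorph.subsingleton
  have : IsAffine G.U := IsAffine.of_isIso eU.hom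
  set r := ρ (IsLocalRing.closedPoint Ω)
  have : IsClosedImmersion (G.R.fromSpecResidueField r) :=
    isClosed_singleton_iff_isClosedImmersion.mp hρ
  obtain ⟨π, hπ⟩ : ∃ π, π ≫ G.R.fromSpecResidueField r = ρ :=
    ⟨_, Scheme.descResidueField_stalkClosedPointTo_fromSpecResidueField Ω G.R ρ⟩
  have : IsIntegralHom (π ≫ G.R.fromSpecResidueField r ≫ G.s) := by rw [reassoc_of% hπ]; infer_instance
  have : IsIntegralHom π := IsIntegralHom.of_comp π (G.R.fromSpecResidueField r ≫ G.s)
  have : IsAffineHom (G.R.fromSpecResidueField r ≫ G.t) := isAffineHom_of_isAffine _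
  have : JacobsonSpace G.U := inferInstance
  have : IsFinite (G.R.fromSpecResidueField r ≫ G.t) :=
    (isFinite_iff_locallyOfFiniteType_of_jacobsonSpace).mpr inferInstance
  rw [← hπ, Category.assoc]
  infer_instance

variable [LocallyOfFiniteType G.s] [LocallyOfFiniteType G.t]

/-- All generic points of components have the height of the one through the identity. -/
theorem height_isMaxPt {g₀ g : G.R} (hg₀ : IsMaxPt g₀) (hge : g₀ ⤳ G.e (pt G k eU)) (hg : IsMaxPt g) :
    Order.height g = Order.height g₀ := by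
  have : Subsingleton G.U := eU.hom.homeomorph.subsingleton
  let Ω := AlgebraicClosure k
  let x : Spec (CommRingCat.of Ω) ⟶ G.U :=
    Spec.map (CommRingCat.ofHom (algebraMap k Ω)) ≫ eU.inv
  have : IsIntegralHom (Spec.map (CommRingCat.ofHom (algebraMap k Ω))) :=
    IsIntegralHom.SpecMap_iff.mpr (algebraMap_isIntegral_iff.mpr inferInstance)
  let p : srcFib G x ⟶ G.R := pullback.fst G.s x
  have : Flat x := flat_to_field eU x
  have : Surjective x := ⟨fun u => ⟨IsLocalRing.closedPoint _, Subsingleton.elim _ _⟩⟩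
  have hgm : GeneralizingMap p := Flat.generalizingMap p
  obtain ⟨g', hg'⟩ := p.surjective g
  obtain ⟨c, hc, hcg⟩ := exists_isMaxPt g'
  have hpc : p c = g := hg _ (hg' ▸ hcg.map p.continuous)
  have := LocallyOfFiniteType.jacobsonSpace (pullback.snd G.s x)
  obtain ⟨z, hz, hzc⟩ := nonempty_inter_closedPoints (X := srcFib G x) (Z := closure {c})
    ⟨c, subset_closure rfl⟩ isClosed_closure.isLocallyClosed
  obtain ⟨t, ht, htz⟩ := exists_section (pullback.snd G.s x) z hzc
  let ρ := t ≫ p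
  have hρ : ρ ≫ G.s = x := by simp [ρ, p, pullback.condition, reassoc_of% ht]
  have : IsIntegralHom (ρ ≫ G.s) := hρ ▸ inferInstance
  have : IsIntegralHom (ρ ≫ G.t) := by
    refine isIntegralHom_target G k eU ρ ?_
    rw [show ρ (IsLocalRing.closedPoint Ω) = p z from congrArg p (htz _), ← Set.image_singleton]
    exact p.isClosedMap _ hzc
  let y := ρ ≫ G.t
  obtain ⟨φ, -, hφ, -⟩ := exists_trans G ρ hρ (y := y) rfl
  let p' : srcFib G y ⟶ G.R := pullback.fst G.s y
  have : Flat y := flat_to_field eU y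
  have hgm' : GeneralizingMap p' := Flat.generalizingMap p'
  have hz' : p' (φ.hom z) = G.e (pt G k eU) := by
    rw [← htz (IsLocalRing.closedPoint Ω), ← Scheme.Hom.comp_apply t,
      show t ≫ φ.hom = idSec G y by
        rw [← hφ]; congr 1; apply pullback.hom_ext <;> simp [ρ, p, ht],
      ← Scheme.Hom.comp_apply, idSec_fst]
    exact congrArg G.e (Subsingleton.elim _ _)
  have h1 : IsMaxPt (φ.hom c) := hc.map φ.hom.isOpenEmbedding.generalizingMap
  have h2 : p' (φ.hom c) ⤳ G.e (pt G k eU) :=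
    hz' ▸ ((specializes_iff_mem_closure.mpr hz).map φ.hom.continuous).map p'.continuous
  rw [← hpc, ← GrpSchLib.height_apply_of_isIntegralHom p c,
    GrpSchLib.height_apply_of_isIntegralHom φ.hom c,
    GrpSchLib.height_apply_of_isIntegralHom p' (φ.hom c),
    (h1.map hgm').eq (uniComp G k eU) hg₀ h2 hge]

include eU in
theorem exists_deg : ∃ d : ℕ, ∀ g : G.R, IsMaxPt g → VarDim.deg (G.s ≫ eU.hom) g = d := by
  obtain ⟨g₀, hg₀, hge⟩ := exists_isMaxPt (G.e (pt G k eU))
  refine ⟨VarDim.deg (G.s ≫ eU.hom) g₀, fun g hg => ?_⟩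
  have := height_isMaxPt G k eU hg₀ hge hg
  rw [VarDim.height_eq_deg (G.s ≫ eU.hom), VarDim.height_eq_deg (G.s ≫ eU.hom)] at this
  exact_mod_cast this

theorem dim_opens (W : G.R.Opens) (hW : (W : Set G.R).Nonempty) {g : G.R} (hg : IsMaxPt g) :
    topologicalKrullDim ↥(W : Set G.R) = ((VarDim.deg (G.s ≫ eU.hom) g : ℕ∞) : WithBot ℕ∞) := by
  obtain ⟨d, hd⟩ := exists_deg G k eU
  rw [VarDim.topologicalKrullDim_opens_eq_iSup_deg (G.s ≫ eU.hom), hd g hg]
  refine le_antisymm (iSup_le fun ⟨x, _⟩ => ?_) ?_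
  · obtain ⟨c, hc, hcx⟩ := exists_isMaxPt x
    have := VarDim.deg_le_of_specializes (G.s ≫ eU.hom) hcx
    rw [hd c hc] at this
    exact_mod_cast this
  · obtain ⟨x, hx⟩ := hW
    obtain ⟨c, hc, hcx⟩ := exists_isMaxPt x
    exact le_iSup_of_le ⟨c, hcx.mem_open W.2 hx⟩ (by rw [hd c hc])

theorem dim_eq {g : G.R} (hg : IsMaxPt g) :
    topologicalKrullDim G.R = ((VarDim.deg (G.s ≫ eU.hom) g : ℕ∞) : WithBot ℕ∞) := by
  obtain ⟨d, hd⟩ := exists_deg G k eU
  rw [VarDim.topologicalKrullDim_eq_iSup_deg (G.s ≫ eU.hom)]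
  refine le_antisymm (iSup_le fun x => ?_) (le_iSup_of_le g le_rfl)
  obtain ⟨c, hc, hcx⟩ := exists_isMaxPt x
  have := VarDim.deg_le_of_specializes (G.s ≫ eU.hom) hcx
  rw [hd c hc, ← hd g hg] at this
  exact_mod_cast this

include eU in
theorem dim_component {Z : Set G.R} (hZ : Z ∈ irreducibleComponents G.R) :
    topologicalKrullDim ↥Z = topologicalKrullDim G.R := by
  obtain ⟨g, hg, rfl⟩ := exists_eq_closure hZ
  rw [dim_eq G k eU hg]
  exact VarDim.topologicalKrullDim_closure_singleton (G.s ≫ eU.hom) g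

include eU in
theorem localDim_eq (r : G.R) : FlatMor.localDim G.R r = topologicalKrullDim G.R := by
  obtain ⟨g, hg, -⟩ := exists_isMaxPt r
  rw [FlatMor.localDim, dim_eq G k eU hg]
  have : Nonempty {W : G.R.Opens // r ∈ W} := ⟨⟨⊤, trivial⟩⟩
  exact (iInf_congr fun W : {W : G.R.Opens // r ∈ W} => dim_opens G k eU W.1 ⟨r, W.2⟩ hg).trans
    iInf_const

include eU in
theorem ringKrullDim_stalk_eq {r : G.R} (hr : IsClosed ({r} : Set G.R)) :
    ringKrullDim (G.R.presheaf.stalk r) = topologicalKrullDim G.R := by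
  obtain ⟨b, hb, ⟨η', hη', hdeg⟩, hle⟩ := VarDim.exists_deg_add_stalk (G.s ≫ eU.hom) r
  obtain ⟨g, hg, hgr⟩ := exists_isMaxPt r
  rw [dim_eq G k eU hg, hb]
  have h0 := (VarDim.closedPoint_iff_deg_eq_zero (G.s ≫ eU.hom) r).mp hr
  have h1 : VarDim.deg (G.s ≫ eU.hom) η' ≤ VarDim.deg (G.s ≫ eU.hom) g :=
    VarDim.deg_le_of_specializes _ (hg.specializes (uniComp G k eU) hgr hη')
  have h2 := hle g hgr
  have : VarDim.deg (G.s ≫ eU.hom) g = b := by omega
  rw [this]
  rfl

include eU in
theorem dim_stabilizer : topologicalKrullDim G.R = topologicalKrullDim G.stabilizer := by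
  have := isClosedImmersion_stabι G k eU
  have hι := (GrpdLib.stabι G).isClosedEmbedding
  have hstab : topologicalKrullDim G.stabilizer = topologicalKrullDim ↥(Set.range (GrpdLib.stabι G)) :=
    IsHomeomorph.topologicalKrullDim_eq hι.isEmbedding.toHomeomorph hι.isEmbedding.toHomeomorph.isHomeomorph
  refine le_antisymm ?_ hι.isInducing.topologicalKrullDim_le
  obtain ⟨g, hg, hge⟩ := exists_isMaxPt (G.e (pt G k eU))
  rw [hstab, dim_eq G k eU hg, VarDim.topologicalKrullDim_set_eq_iSup_deg (G.s ≫ eU.hom) hι.isClosed_range]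
  exact le_iSup_of_le ⟨g, mem_range_stabι_of_specializes G k eU hge⟩ le_rfl

end Groth.Agent.GrpdFld
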