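import Groth.Agent.GrpdFld.Irred
import Groth.Agent.GrpdLib.DegDecomp
import Mathlib.AlgebraicGeometry.Morphisms.Integral

/-!
# The component of the identity of a groupoid over a field
-/

set_option backward.isDefEq.respectTransparency false
set_option backward.isDefEq.respectTransparency.types false

universe u

open CategoryTheory CategoryTheory.Limits AlgebraicGeometry Grpd
open Groth.Agent.GrpSchLib (IsMaxPt UniComp exists_isMaxPt)

noncomputable section

namespace Groth.Agent.GrpdFld

variable {S : Scheme.{u}} (G : GroupoidScheme S) (k : Type u) [Field k]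
  (eU : G.U ≅ Spec (CommRingCat.of k))

theorem e_i : G.e ≫ G.i = G.e := by
  refine (G.e_comp (G.e ≫ G.i)).symm.trans
    ((GrpdLib.c_congr G _ ?_ rfl).trans ((G.comp_i G.e).trans ?_))
  · rw [Category.assoc, reassoc_of% G.i_t, reassoc_of% G.e_s]
  · rw [reassoc_of% G.e_t]

theorem geometricallyIrreducible_component_s {Z : Scheme.{u}} (ι : Z ⟶ G.R) [IsClosedImmersion ι]
    (hZ : Set.range ι ∈ irreducibleComponents G.R) (he : G.e (pt G k eU) ∈ Set.range ι) :
    GeometricallyIrreducible (ι ≫ G.s ≫ eU.hom) := by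
  obtain ⟨g, hg, hge⟩ := exists_isMaxPt (G.e (pt G k eU))
  have hr := eq_closure_of_mem_component (uniComp G k eU) hg hge hZ he
  refine GrpSchLib.geometricallyIrreducible_of_algClosure _ ?_
  let b := Spec.map (CommRingCat.ofHom (algebraMap k (AlgebraicClosure k)))
  let x := b ≫ eU.inv
  let p : srcFib G x ⟶ G.R := pullback.fst G.s x
  let E := asIso (pullback.map (ι ≫ G.s) x (ι ≫ G.s ≫ eU.hom) b (𝟙 _) (𝟙 _) eU.hom
    (by simp) (by simp [x]))
  let j : pullback (ι ≫ G.s ≫ eU.hom) b ⟶ pullback G.s x :=
    (E.symm ≪≫ (pullbackRightPullbackFstIso G.s x ι).symm).hom ≫ pullback.snd ι p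
  have hj : IsClosedImmersion j := inferInstance
  have hrange : Set.range j = p ⁻¹' closure {g} := by
    rw [← hr, ← Scheme.Pullback.range_snd, Scheme.Hom.comp_base, TopCat.coe_comp,
      Set.range_comp, Function.Surjective.range_eq (Scheme.Hom.surjective (E.symm ≪≫ (pullbackRightPullbackFstIso G.s x ι).symm).hom),
      Set.image_univ]
  suffices hirr : IsIrreducible (p ⁻¹' closure {g}) from irreducibleSpace_of_range j (hrange ▸ hirr)
  have : IsIntegralHom b :=
    IsIntegralHom.SpecMap_iff.mpr (algebraMap_isIntegral_iff.mpr inferInstance)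
  have : Flat x := flat_to_field eU x
  have : Surjective x := ⟨fun u => ⟨IsLocalRing.closedPoint _,
    @Subsingleton.elim _ eU.hom.homeomorph.subsingleton _ _⟩⟩
  have hgm : GeneralizingMap p := Flat.generalizingMap p
  have hcl : IsClosedMap p := p.isClosedMap
  have key : (p ⁻¹' {G.e (pt G k eU)}).Subsingleton := by
    have hr : Set.range G.e = {G.e (pt G k eU)} := by
      refine Set.Subset.antisymm ?_ (Set.singleton_subset_iff.mpr ⟨_, rfl⟩)
      rintro _ ⟨y, rfl⟩
      exact congrArg G.e (@Subsingleton.elim _ eU.hom.homeomorph.subsingleton _ _)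
    rw [← hr, ← Scheme.Pullback.range_snd, ← Set.image_univ]
    refine Set.Subsingleton.image ?_ _
    have : Subsingleton ↥(pullback G.e p) :=
      ((pullbackRightPullbackFstIso G.s x G.e) ≪≫ pullback.congrHom G.e_s rfl ≪≫
        asIso (pullback.snd (𝟙 _) x)).hom.homeomorph.subsingleton
    exact Set.subsingleton_univ
  have main : ∀ a, a ∈ p ⁻¹' closure {g} →
      ∃ c e', IsMaxPt c ∧ c ⤳ a ∧ c ⤳ e' ∧ p e' = G.e (pt G k eU) ∧ p c = g := by
    intro a ha
    obtain ⟨c, hc, hca⟩ := exists_isMaxPt a
    have hcg : p c = g := (hc.map hgm).eq (uniComp G k eU) hg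
      (hca.map p.continuous) (specializes_iff_mem_closure.mpr ha)
    obtain ⟨e', he', he''⟩ :=
      (hcg ▸ hge).mem_closed (hcl (closure {c}) isClosed_closure) ⟨c, subset_closure rfl, rfl⟩
    exact ⟨c, e', hc, hca, specializes_iff_mem_closure.mpr he', he'', hcg⟩
  obtain ⟨g', hgg⟩ := p.surjective g
  obtain ⟨c, e', hc, hca, hce, he', hcg⟩ :=
    main g' (by rw [Set.mem_preimage, hgg]; exact subset_closure rfl)
  have : p ⁻¹' closure {g} = closure {c} := by
    refine subset_antisymm (fun a ha => ?_)
      (closure_minimal ?_ (isClosed_closure.preimage p.continuous))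
    · obtain ⟨c', e'', hc', hca', hce', he'', -⟩ := main a ha
      obtain rfl := key he' he''
      rw [hc.eq (uniComp_srcFib G k eU x) hc' hce hce']
      exact hca'.mem_closure
    · rintro _ rfl
      rw [Set.mem_preimage, hcg]
      exact subset_closure rfl
  rw [this]
  exact isIrreducible_singleton.closure

theorem geometricallyIrreducible_component_t {Z : Scheme.{u}} (ι : Z ⟶ G.R) [IsClosedImmersion ι]
    (hZ : Set.range ι ∈ irreducibleComponents G.R) (he : G.e (pt G k eU) ∈ Set.range ι) :
    GeometricallyIrreducible (ι ≫ G.t ≫ eU.hom) := by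
  obtain ⟨g, hg, hge⟩ := exists_isMaxPt (G.e (pt G k eU))
  have hu := uniComp G k eU
  have hr := eq_closure_of_mem_component hu hg hge hZ he
  have : IsIso G.i := ⟨G.i, GrpdLib.i_i G, GrpdLib.i_i G⟩
  have hie : G.i (G.e (pt G k eU)) = G.e (pt G k eU) := by
    rw [← Scheme.Hom.comp_apply, e_i]
  have hig : G.i g = g := by
    have h1 : IsMaxPt (G.i g) := hg.map G.i.isOpenEmbedding.generalizingMap
    exact h1.eq hu hg (hie ▸ hge.map G.i.continuous) hge
  have hr' : Set.range (ι ≫ G.i) = closure {g} := by
    rw [Scheme.Hom.comp_base, TopCat.coe_comp, Set.range_comp, hr]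
    show G.i.homeomorph '' closure {g} = _
    rw [Homeomorph.image_closure, Set.image_singleton]
    exact congrArg (fun x => closure {x}) hig
  have := geometricallyIrreducible_component_s G k eU (ι ≫ G.i)
    (hr' ▸ closure_mem_irreducibleComponents hg) (hr' ▸ hge.mem_closure)
  rwa [Category.assoc, reassoc_of% G.i_s] at this

end Groth.Agent.GrpdFld
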