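import Groth.Agent.GrpdFld.Closure

/-!
# Locally closed images are closed
-/

set_option backward.isDefEq.respectTransparency false
set_option backward.isDefEq.respectTransparency.types false

universe u

open CategoryTheory CategoryTheory.Limits AlgebraicGeometry Grpd

noncomputable section

namespace Groth.Agent.GrpdFld

variable {S : Scheme.{u}} {G₁ G₂ : GroupoidScheme S} (f : GroupoidScheme.Hom G₁ G₂) [IsIso f.fU]
  (k : Type u) [Field k] (eU : G₂.U ≅ Spec (CommRingCat.of k))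

theorem mem_range_c {K : Type u} [Field K] (α β : Spec (CommRingCat.of K) ⟶ G₂.R)
    (h : α ≫ G₂.s = β ≫ G₂.t) (hα : α (IsLocalRing.closedPoint K) ∈ Set.range ⇑f.fR)
    (hβ : β (IsLocalRing.closedPoint K) ∈ Set.range ⇑f.fR) :
    (pullback.lift α β h ≫ G₂.c) (IsLocalRing.closedPoint K) ∈ Set.range ⇑f.fR := by
  obtain ⟨L₁, _, g₁, α₁, hα₁⟩ := GrpdLib.exists_field_lift f.fR K α hα
  have hβ' : (g₁ ≫ β) (IsLocalRing.closedPoint L₁) ∈ Set.range ⇑f.fR := by
    rw [Scheme.Hom.comp_apply, Subsingleton.elim (g₁ (IsLocalRing.closedPoint L₁)) (IsLocalRing.closedPoint K)]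
    exact hβ
  obtain ⟨L, _, g₂, β₁, hβ₁⟩ := GrpdLib.exists_field_lift f.fR L₁ (g₁ ≫ β) hβ'
  have h' : (g₂ ≫ α₁) ≫ G₁.s = β₁ ≫ G₁.t := composable_of_map f (by
    rw [Category.assoc g₂, hα₁, hβ₁]; simp only [Category.assoc, h])
  refine ⟨(pullback.lift _ _ h' ≫ G₁.c) (IsLocalRing.closedPoint L), ?_⟩
  rw [← Scheme.Hom.comp_apply, f.comm_c]
  have e : pullback.lift ((g₂ ≫ α₁) ≫ f.fR) (β₁ ≫ f.fR) (by
      rw [Category.assoc (g₂ ≫ α₁), f.comm_s, Category.assoc β₁, f.comm_t, ← Category.assoc, h',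
        Category.assoc]) ≫ G₂.c =
      (g₂ ≫ g₁) ≫ pullback.lift α β h ≫ G₂.c := by
    rw [GrpdLib.lift_comp_c]
    exact GrpdLib.c_congr G₂ _ (by simp only [Category.assoc, hα₁]) (by simp only [Category.assoc, hβ₁])
  rw [e, Scheme.Hom.comp_apply]
  exact congrArg _ (Subsingleton.elim _ _)

include eU in
theorem isClosed_range_of_isLocallyClosed (h : IsLocallyClosed (Set.range ⇑f.fR)) :
    IsClosed (Set.range ⇑f.fR) := by
  have : Subsingleton G₂.U := eU.hom.homeomorph.subsingleton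
  refine isClosed_of_closure_subset fun r hr => ?_
  set R := Set.range ⇑f.fR
  have hO : IsOpen (coborder R) := h.isOpen_coborder
  have hRO : R = closure R ∩ coborder R := (closure_inter_coborder).symm
  let ρ := G₂.R.fromSpecResidueField r
  have hρ : ∀ w, ρ w = r := fun w => Scheme.fromSpecResidueField_apply r w
  let x := ρ ≫ G₂.s
  let y := ρ ≫ G₂.t
  obtain ⟨φ, hφsnd, hφ, hc, hcomp⟩ := exists_trans G₂ ρ (x := x) rfl (y := y) rfl
  let p : srcFib G₂ x ⟶ G₂.R := pullback.fst G₂.s x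
  let p' : srcFib G₂ y ⟶ G₂.R := pullback.fst G₂.s y
  have : Flat x := flat_to_field eU x
  have : UniversallyOpen x := universallyOpen_to_field eU x
  let z := arrSec G₂ ρ (x := x) rfl (IsLocalRing.closedPoint _)
  have hz : p z = r := by
    rw [← Scheme.Hom.comp_apply, arrSec_fst]; exact hρ _
  let O' := φ.hom ⁻¹' (p' ⁻¹' coborder R)
  have hzO : z ∈ O' := by
    show p' (φ.hom z) ∈ coborder R
    rw [← Scheme.Hom.comp_apply, ← Scheme.Hom.comp_apply, reassoc_of% hφ, idSec_fst]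
    exact subset_coborder (range_e_subset f ⟨_, rfl⟩)
  obtain ⟨γ, hγO, hγR⟩ : (O' ∩ p ⁻¹' R).Nonempty := by
    have hzC : z ∈ closure (p ⁻¹' R) := by
      rw [← p.isOpenMap.preimage_closure_eq_closure_preimage p.continuous]
      show p z ∈ closure R
      rw [hz]; exact hr
    exact mem_closure_iff.mp hzC O' ((hO.preimage p'.continuous).preimage φ.hom.continuous) hzO
  let ζ := (srcFib G₂ x).fromSpecResidueField γ
  let γ' := ζ ≫ p
  let δ := ζ ≫ φ.hom ≫ p'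
  let ρ' := ζ ≫ pullback.snd G₂.s x ≫ ρ
  have hγ' : ∀ w, γ' w = p γ := fun w => congrArg p (Scheme.fromSpecResidueField_apply γ w)
  have hδ : ∀ w, δ w = p' (φ.hom γ) := fun w =>
    congrArg p' (congrArg φ.hom (Scheme.fromSpecResidueField_apply γ w))
  have hδs : δ ≫ G₂.s = ρ' ≫ G₂.t := by
    simp only [δ, ρ', p', Category.assoc, pullback.condition, reassoc_of% hφsnd, y]
  -- `δ ∘ ρ' = γ'`
  have hδρ : pullback.lift δ ρ' hδs ≫ G₂.c = γ' := by
    refine Eq.trans ?_ (congrArg (ζ ≫ ·) hcomp)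
    rw [GrpdLib.lift_comp_c]
  let w := IsLocalRing.closedPoint ((srcFib G₂ x).residueField γ)
  have hδR : p' (φ.hom γ) ∈ R := by
    rw [hRO]
    refine ⟨?_, hγO⟩
    -- `δ = γ' ∘ ρ'⁻¹`
    have hs : γ' ≫ G₂.s = (ρ' ≫ G₂.i) ≫ G₂.t := by
      rw [← hδρ, G₂.comp_s, Category.assoc ρ' G₂.i, G₂.i_t]
    have e : pullback.lift γ' (ρ' ≫ G₂.i) hs ≫ G₂.c = δ :=
      (GrpdLib.c_congr G₂ _ hδρ.symm rfl).trans (GrpdLib.comp_inv_cancel' G₂ δ ρ' hδs)
    have hmem := mem_closure_c f k eU (pullback.lift γ' (ρ' ≫ G₂.i) hs w) (by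
        rw [← Scheme.Hom.comp_apply, pullback.lift_fst, hγ']; exact subset_closure hγR) (by
        rw [← Scheme.Hom.comp_apply, pullback.lift_snd, Scheme.Hom.comp_apply]
        refine mem_closure_i f ?_
        show (ζ ≫ pullback.snd G₂.s x ≫ ρ) w ∈ _
        rw [← Category.assoc, Scheme.Hom.comp_apply, hρ]
        exact hr)
    rw [← Scheme.Hom.comp_apply (pullback.lift γ' (ρ' ≫ G₂.i) hs), e] at hmem
    rwa [hδ] at hmem
  -- `ρ' = δ⁻¹ ∘ γ'`
  have hs : (δ ≫ G₂.i) ≫ G₂.s = γ' ≫ G₂.t := by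
    rw [← hδρ, G₂.comp_t, Category.assoc δ G₂.i, G₂.i_s]
  have e : pullback.lift (δ ≫ G₂.i) γ' hs ≫ G₂.c = ρ' := by
    refine (GrpdLib.c_congr G₂ _ rfl hδρ.symm).trans ?_
    rw [← G₂.assoc _ _ _ (by rw [Category.assoc δ G₂.i, G₂.i_s]) hδs]
    refine (GrpdLib.c_congr G₂ _ (G₂.i_comp δ) rfl).trans
      ((GrpdLib.c_congr G₂ _ ?_ rfl).trans (G₂.e_comp ρ'))
    rw [reassoc_of% hδs]
  have hmem := mem_range_c f (δ ≫ G₂.i) γ' hs (by
    obtain ⟨b, hb⟩ := hδR
    refine ⟨G₁.i b, ?_⟩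
    rw [← Scheme.Hom.comp_apply, hom_comm_i, Scheme.Hom.comp_apply, hb]
    exact (congrArg G₂.i (hδ _)).symm) (Set.mem_of_eq_of_mem (hγ' _) hγR)
  rw [e] at hmem
  have hr' : ∀ v, ρ' v = r := fun v => hρ _
  exact Set.mem_of_eq_of_mem (hr' _).symm hmem

end Groth.Agent.GrpdFld
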