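import Groth.Agent.GrpdLib.FibreIso
import Groth.Agent.GrpdLib.Pullback

/-!
# Source fibres, unit sections and translations
-/

set_option backward.isDefEq.respectTransparency false
set_option backward.isDefEq.respectTransparency.types false

universe u

open CategoryTheory CategoryTheory.Limits AlgebraicGeometry Grpd

noncomputable section

namespace Groth.Agent.GrpdFld

variable {S : Scheme.{u}} (G : GroupoidScheme S) {T : Scheme.{u}}

/-- The arrows with source `x`. -/
abbrev srcFib (x : T ⟶ G.U) : Scheme.{u} := pullback G.s x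

/-- The identity arrow in the fibre over `x`. -/
def idSec (x : T ⟶ G.U) : T ⟶ srcFib G x :=
  pullback.lift (x ≫ G.e) (𝟙 T) (by rw [Category.assoc, G.e_s, Category.comp_id, Category.id_comp])

@[reassoc (attr := simp)]
theorem idSec_fst (x : T ⟶ G.U) : idSec G x ≫ pullback.fst G.s x = x ≫ G.e := pullback.lift_fst ..

@[reassoc (attr := simp)]
theorem idSec_snd (x : T ⟶ G.U) : idSec G x ≫ pullback.snd G.s x = 𝟙 T := pullback.lift_snd ..

/-- An arrow as a point of the fibre over its source. -/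
def arrSec (ρ : T ⟶ G.R) {x : T ⟶ G.U} (hx : ρ ≫ G.s = x) : T ⟶ srcFib G x :=
  pullback.lift ρ (𝟙 T) (by rw [hx, Category.id_comp])

@[reassoc (attr := simp)]
theorem arrSec_fst (ρ : T ⟶ G.R) {x : T ⟶ G.U} (hx : ρ ≫ G.s = x) :
    arrSec G ρ hx ≫ pullback.fst G.s x = ρ := pullback.lift_fst ..

@[reassoc (attr := simp)]
theorem arrSec_snd (ρ : T ⟶ G.R) {x : T ⟶ G.U} (hx : ρ ≫ G.s = x) :
    arrSec G ρ hx ≫ pullback.snd G.s x = 𝟙 T := pullback.lift_snd ..

/-- Translation carrying a given arrow `x ⟶ y` to the identity of `y`. -/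
theorem exists_trans (ρ : T ⟶ G.R) {x y : T ⟶ G.U} (hx : ρ ≫ G.s = x) (hy : ρ ≫ G.t = y) :
    ∃ φ : srcFib G x ≅ srcFib G y,
      φ.hom ≫ pullback.snd G.s y = pullback.snd G.s x ∧ arrSec G ρ hx ≫ φ.hom = idSec G y ∧
        ∃ h : (φ.hom ≫ pullback.fst G.s y) ≫ G.s = (pullback.snd G.s x ≫ ρ) ≫ G.t,
          pullback.lift (φ.hom ≫ pullback.fst G.s y) (pullback.snd G.s x ≫ ρ) h ≫ G.c =
            pullback.fst G.s x := by
  subst hx
  have h : ρ ≫ G.t = (y ≫ G.e) ≫ G.t := by rw [Category.assoc, G.e_t, Category.comp_id, hy]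
  have hy' : (y ≫ G.e) ≫ G.s = y := by rw [Category.assoc, G.e_s, Category.comp_id]
  refine ⟨GrpdLib.moveArrowIso G ρ (y ≫ G.e) h ≪≫ pullback.congrHom rfl hy', ?_, ?_, ?_⟩
  · simp [GrpdLib.moveArrow]
  · have hm : arrSec G ρ rfl ≫ GrpdLib.moveArrow G ρ (y ≫ G.e) h ≫ pullback.fst _ _ = y ≫ G.e := by
      rw [GrpdLib.moveArrow, pullback.lift_fst]
      refine ((Category.assoc _ _ _).symm.trans (congrArg (· ≫ G.c) ?_)).trans (G.e_comp (y ≫ G.e))
      apply pullback.hom_ext
      · rw [Category.assoc, pullback.lift_fst, pullback.lift_fst,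
          ← Category.assoc (y ≫ G.e) G.t, ← h, Category.assoc, ← G.comp_i ρ]
        refine (Category.assoc _ _ _).symm.trans (congrArg (· ≫ G.c) ?_)
        apply pullback.hom_ext <;> simp
      · simp
    apply pullback.hom_ext
    · simpa using hm
    · simp [GrpdLib.moveArrow]
  · have hA : (pullback.fst G.s (ρ ≫ G.s)) ≫ G.s = (pullback.snd G.s (ρ ≫ G.s) ≫ ρ) ≫ G.s := by
      rw [pullback.condition, Category.assoc]
    set A := pullback.lift (pullback.fst G.s (ρ ≫ G.s)) ((pullback.snd G.s (ρ ≫ G.s) ≫ ρ) ≫ G.i)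
      (by rw [Category.assoc _ G.i, G.i_t, hA]) ≫ G.c with hAdef
    have hAs : A ≫ G.s = (pullback.snd G.s (ρ ≫ G.s) ≫ ρ) ≫ G.t := by
      simp only [hAdef]; rw [G.comp_s, Category.assoc _ G.i, G.i_s]
    have e : (GrpdLib.moveArrowIso G ρ (y ≫ G.e) h ≪≫ pullback.congrHom rfl hy').hom ≫
        pullback.fst G.s y = A := by
      simp only [Iso.trans_hom, GrpdLib.moveArrowIso_hom, GrpdLib.moveArrow, Category.assoc,
        pullback.congrHom_hom, pullback.map, pullback.lift_fst, Category.comp_id]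
      refine (GrpdLib.c_congr G _ ?_ ?_).trans (G.comp_e A)
      · simp only [hAdef]
        exact GrpdLib.c_congr G _ rfl (Category.assoc _ _ _).symm
      · rw [reassoc_of% hAs, reassoc_of% hy]
    refine ⟨by rw [e, hAs], ?_⟩
    refine (GrpdLib.c_congr G _ e rfl).trans ?_
    exact GrpdLib.comp_inv_cancel G _ _ hA

/-- The projection from the arrows with both ends at `x` to the arrows with source `x`. -/
def pbToFib (x : T ⟶ G.U) : GrpdLib.pbR G x ⟶ srcFib G x :=
  pullback.lift (GrpdLib.pbMid G x) (GrpdLib.pbS G x) (GrpdLib.pbMid_s G x)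

@[reassoc (attr := simp)]
theorem pbToFib_fst (x : T ⟶ G.U) : pbToFib G x ≫ pullback.fst G.s x = GrpdLib.pbMid G x :=
  pullback.lift_fst ..

@[reassoc (attr := simp)]
theorem pbToFib_snd (x : T ⟶ G.U) : pbToFib G x ≫ pullback.snd G.s x = GrpdLib.pbS G x :=
  pullback.lift_snd ..

theorem pbE_toFib (x : T ⟶ G.U) : GrpdLib.pbE G x ≫ pbToFib G x = idSec G x := by
  apply pullback.hom_ext
  · simp [GrpdLib.pbE_mid]
  · simp [GrpdLib.pbE_s]

theorem isPullback_pbToFib (x : T ⟶ G.U) :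
    IsPullback (pbToFib G x) (GrpdLib.pbT G x) (pullback.fst G.s x ≫ G.t) x := by
  refine ⟨⟨by rw [pbToFib_fst_assoc, GrpdLib.pbMid_t]⟩, ⟨PullbackCone.IsLimit.mk _
    (fun c => GrpdLib.pbMk G x (c.fst ≫ pullback.fst G.s x) c.snd (c.fst ≫ pullback.snd G.s x)
      (by rw [Category.assoc]; exact c.condition) (by rw [Category.assoc, Category.assoc, pullback.condition]))
    (fun c => ?_) (fun c => GrpdLib.pbMk_t ..) fun c m h₁ h₂ => ?_⟩⟩
  · apply pullback.hom_ext <;> simp
  · apply GrpdLib.pb_hom_ext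
    · rw [GrpdLib.pbMk_mid, ← h₁, Category.assoc, pbToFib_fst]
    · rw [GrpdLib.pbMk_t, h₂]
    · rw [GrpdLib.pbMk_s, ← h₁, Category.assoc, pbToFib_snd]

end Groth.Agent.GrpdFld
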