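import Groth.Agent.GrpdFld.Tangent
import Groth.Agent.GrpdFld.Translate
import Groth.Agent.GrpdFld.Irred
import Groth.Agent.GrpdLib.DegDecomp
import Groth.Agent.GrpSchLib.Loci
import Mathlib.RingTheory.LocalProperties.Reduced
import Mathlib.AlgebraicGeometry.Morphisms.Finite

/-!
# Homogeneity and smoothness of groupoids over fields
-/

set_option backward.isDefEq.respectTransparency false
set_option backward.isDefEq.respectTransparency.types false

universe u

open CategoryTheory CategoryTheory.Limits AlgebraicGeometry Grpd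
open Groth.Agent.GrpSchLib

noncomputable section

namespace Groth.Agent.GrpdFld

variable {S : Scheme.{u}} (G : GroupoidScheme S) (k : Type u) [Field k]
  (eU : G.U ≅ Spec (CommRingCat.of k)) [LocallyOfFiniteType G.s] [LocallyOfFiniteType G.t]

include eU in
omit [LocallyOfFiniteType G.s] [LocallyOfFiniteType G.t] in
theorem FL_to_field {T : Scheme.{u}} (x : T ⟶ G.U) [LocallyOfFiniteType x] :
    Loci.FL x := by
  have : IsLocallyNoetherian G.U :=
    isLocallyNoetherian_of_isOpenImmersion eU.hom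
  exact ⟨flat_to_field eU x, inferInstance⟩

include eU in
/-- A locus of the source map which is compatible with fppf base change contains a closed point if
and only if it contains the identity. -/
theorem mem_iff_of_isClosed (L : Saturate.LocusFn.{u}) (hL : Saturate.IsCompat L Loci.FL)
    (r : G.R) (hr : IsClosed ({r} : Set G.R)) :
    r ∈ L (G.s ≫ eU.hom) ↔ G.e (pt G k eU) ∈ L (G.s ≫ eU.hom) := by
  have : Subsingleton G.U := eU.hom.homeomorph.subsingleton
  have : IsClosedImmersion (G.R.fromSpecResidueField r) :=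
    isClosed_singleton_iff_isClosedImmersion.mp hr
  let ρ := G.R.fromSpecResidueField r
  let x := ρ ≫ G.s
  let y := ρ ≫ G.t
  have sq : ∀ z : Spec (G.R.residueField r) ⟶ G.U,
      IsPullback (pullback.fst G.s z) (pullback.snd G.s z) (G.s ≫ eU.hom) (z ≫ eU.hom) := fun z =>
    (IsPullback.of_hasPullback G.s z).of_iso (Iso.refl _) (Iso.refl _) (Iso.refl _) eU
      (by simp) (by simp) (by simp) (by simp)
  have hFL : ∀ z : Spec (G.R.residueField r) ⟶ G.U, LocallyOfFiniteType z → Loci.FL (z ≫ eU.hom) := by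
    intro z hz
    haveI := hz
    obtain ⟨h1, h2⟩ := FL_to_field G k eU z
    exact ⟨inferInstance, inferInstance⟩
  obtain ⟨φ, hφsnd, hφ, -⟩ := exists_trans G ρ (x := x) rfl (y := y) rfl
  have hiso : IsPullback φ.hom (pullback.snd G.s x) (pullback.snd G.s y) (𝟙 _) :=
    IsPullback.of_horiz_isIso ⟨by rw [hφsnd, Category.comp_id]⟩
  have hid : Loci.FL (𝟙 (Spec (G.R.residueField r))) := ⟨inferInstance, inferInstance⟩
  let w : Spec (G.R.residueField r) := IsLocalRing.closedPoint (G.R.residueField r)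
  have h1 := hL _ _ _ _ (sq x) (hFL x inferInstance) (arrSec G ρ (x := x) rfl w)
  have h2 := hL _ _ _ _ hiso hid (arrSec G ρ (x := x) rfl w)
  have h3 := hL _ _ _ _ (sq y) (hFL y inferInstance) (idSec G y w)
  rw [← Scheme.Hom.comp_apply, hφ] at h2
  rw [← Scheme.Hom.comp_apply, arrSec_fst,
    show ρ w = r from Scheme.fromSpecResidueField_apply r w] at h1
  rw [← Scheme.Hom.comp_apply, idSec_fst, Scheme.Hom.comp_apply,
    Subsingleton.elim (y w) (pt G k eU)] at h3
  exact h1.symm.trans (h2.trans h3)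

include eU in
omit [LocallyOfFiniteType G.t] in
theorem lfp_to_field : LocallyOfFinitePresentation (G.s ≫ eU.hom) := by
  rw [HasRingHomProperty.iff_appLE (P := @LocallyOfFinitePresentation)]
  intro U V e
  have hU : IsNoetherianRing Γ(Spec (CommRingCat.of k), U) :=
    IsLocallyNoetherian.component_noetherian U
  exact (RingHom.FinitePresentation.of_finiteType).1 (HasRingHomProperty.appLE @LocallyOfFiniteType
    (G.s ≫ eU.hom) inferInstance U V e)

include eU in
omit [LocallyOfFiniteType G.t] in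
theorem jacobson : JacobsonSpace G.R := LocallyOfFiniteType.jacobsonSpace (G.s ≫ eU.hom)

include eU in
theorem smooth_of_exists (h : (Loci.loc (@Smooth : MorphismProperty Scheme.{u}) (G.s ≫ eU.hom)).Nonempty) :
    Smooth G.s ∧ Smooth G.t := by
  have := lfp_to_field G k eU
  have := jacobson G k eU
  obtain ⟨q, hq, hqc⟩ := nonempty_inter_closedPoints h (Loci.isOpen_loc _ _).isLocallyClosed
  have he := (mem_iff_of_isClosed G k eU _ Loci.compat_smooth q hqc).mp hq
  have hall : ∀ x, x ∈ Loci.loc (@Smooth : MorphismProperty Scheme.{u}) (G.s ≫ eU.hom) := by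
    by_contra hne
    rw [not_forall] at hne
    obtain ⟨r, hr, hrc⟩ := nonempty_inter_closedPoints (X := G.R)
      (Z := (Loci.loc (@Smooth : MorphismProperty Scheme.{u}) (G.s ≫ eU.hom))ᶜ) hne
      (Loci.isOpen_loc _ _).isClosed_compl.isLocallyClosed
    exact hr ((mem_iff_of_isClosed G k eU _ Loci.compat_smooth r hrc).mpr he)
  have : Smooth (G.s ≫ eU.hom) := Loci.of_forall_mem _ _ hall
  have hs : Smooth G.s := (MorphismProperty.cancel_right_of_respectsIso @Smooth _ eU.hom).mp this
  have : IsIso G.i := ⟨G.i, GrpdLib.i_i G, GrpdLib.i_i G⟩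
  refine ⟨hs, ?_⟩
  rw [← G.i_s]
  infer_instance

include eU in
theorem smooth_of_perfect_of_isReduced_opens [PerfectField k] (V : G.R.Opens) [IsReduced V.toScheme]
    (hV : (V : Set G.R).Nonempty) : Smooth G.s ∧ Smooth G.t := by
  refine smooth_of_exists G k eU ?_
  have := lfp_to_field G k eU
  have : Nonempty V.toScheme := hV.to_subtype
  obtain ⟨v, hv⟩ := (V.ι ≫ G.s ≫ eU.hom).dense_smoothLocus_of_perfectField.nonempty
  refine ⟨V.ι v, Loci.mem_loc_of_mem V (V.ι ≫ G.s ≫ eU.hom).smoothLocus ?_ v hv⟩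
  rw [← Scheme.Hom.smoothLocus_eq_top_iff,
    ← Scheme.Hom.preimage_smoothLocus_eq (V.ι ≫ G.s ≫ eU.hom).smoothLocus.ι (V.ι ≫ G.s ≫ eU.hom),
    Scheme.Opens.ι_preimage_self]

include eU in
/-- In characteristic zero the groupoid is reduced near the identity. -/
theorem exists_reduced_nhd [CharZero k] :
    ∃ V : G.R.Opens, (V : Set G.R).Nonempty ∧ IsReduced V.toScheme := by
  have : Subsingleton G.U := eU.hom.homeomorph.subsingleton
  obtain ⟨U, hU, hxU, -⟩ := exists_isAffineOpen_mem_and_subset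
    (show G.e (pt G k eU) ∈ (⊤ : G.R.Opens) from trivial)
  set B : CommRingCat := Γ(G.R, U)
  let j : Spec B ⟶ G.R := hU.fromSpec
  obtain ⟨σ, hσ⟩ := Spec.map_surjective (j ≫ G.s ≫ eU.hom)
  obtain ⟨τ, hτ⟩ := Spec.map_surjective (j ≫ G.t ≫ eU.hom)
  let : Algebra k B := σ.hom.toAlgebra
  have hrange : Set.range ⇑(eU.inv ≫ G.e) ⊆ Set.range j := by
    rintro _ ⟨(p : Spec (CommRingCat.of k)), rfl⟩
    rw [hU.range_fromSpec, show (eU.inv ≫ G.e) p = G.e (pt G k eU) from
      congrArg G.e (Subsingleton.elim (eU.inv p) _)]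
    exact hxU
  obtain ⟨q, hq⟩ := Spec.map_surjective (IsOpenImmersion.lift j (eU.inv ≫ G.e) hrange)
  have hqj : Spec.map q ≫ j = eU.inv ≫ G.e := by rw [hq]; exact IsOpenImmersion.lift_fac _ _ _
  have hqk : σ ≫ q = 𝟙 _ := Spec.map_injective (by
    rw [Spec.map_comp, hσ, reassoc_of% hqj, reassoc_of% G.e_s, eU.inv_hom_id, Spec.map_id])
  let χ : B →ₐ[k] k := { q.hom with commutes' := fun c => congrArg (fun f => f.hom c) hqk }
  have : Algebra.FiniteType k B := by
    have h : LocallyOfFiniteType (Spec.map σ) := hσ ▸ inferInstance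
    exact RingHom.finiteType_algebraMap.1
      ((HasRingHomProperty.Spec_iff (P := @LocallyOfFiniteType)).mp h)
  have : IsNoetherianRing B := Algebra.FiniteType.isNoetherianRing k B
  let m : Ideal B := RingHom.ker χ
  have : m.IsMaximal := RingHom.ker_isMaximal_of_surjective χ (fun c => ⟨algebraMap k B c, χ.commutes c⟩)
  have hdom : IsDomain (Localization.AtPrime m) :=
    isDomain_of_derivations m (fun b => ⟨χ b, by simp [m, RingHom.mem_ker]⟩)
      (fun l h1 h2 => exists_derivation_lift G eU B τ.hom j hσ.symm hτ.symm χ hqj l h1 h2) _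
  -- the nilradical vanishes near `m`
  obtain ⟨s, hs⟩ := IsNoetherian.noetherian (nilradical B)
  have key : ∀ a ∈ s, ∃ f : B, f ∉ m ∧ f * a = 0 := by
    intro a ha
    have hn : IsNilpotent a := show a ∈ nilradical B from hs ▸ Ideal.subset_span ha
    obtain ⟨⟨f, hf⟩, hfa⟩ := (IsLocalization.map_eq_zero_iff m.primeCompl (Localization.AtPrime m) a).mp
      ((hn.map (algebraMap B (Localization.AtPrime m))).eq_zero)
    exact ⟨f, hf, hfa⟩
  choose f hf hfa using key
  let F : B := ∏ a : s, f a a.2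
  have hF : F ∉ m := by
    intro h
    obtain ⟨a, -, ha⟩ := (Ideal.IsPrime.prod_mem_iff).mp h
    exact hf a a.2 ha
  have hred : _root_.IsReduced (Localization.Away F) := by
    refine ⟨fun z hz => ?_⟩
    obtain ⟨⟨b, F'⟩, rfl⟩ := IsLocalization.mk'_surjective (Submonoid.powers F) z |>
      fun ⟨p, hp⟩ => (⟨p, hp⟩ : ∃ p : B × Submonoid.powers F, IsLocalization.mk' _ p.1 p.2 = z)
    obtain ⟨n, hn⟩ := hz
    rw [← IsLocalization.mk'_pow, IsLocalization.mk'_eq_zero_iff] at hn
    obtain ⟨⟨_, i, rfl⟩, hi⟩ := hn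
    have hnil : IsNilpotent (F * b) := ⟨n + i, by
      rw [mul_pow, pow_add, pow_add]
      calc F ^ n * F ^ i * (b ^ n * b ^ i) = (F ^ i * b ^ n) * (F ^ n * b ^ i) := by ring
        _ = 0 := by rw [hi, zero_mul]⟩
    have hFn : ∀ y ∈ nilradical B, F * y = 0 := by
      intro y hy
      rw [← hs] at hy
      refine Submodule.span_induction (fun a ha => ?_) (mul_zero _) (fun x y _ _ hx hy => by
        rw [mul_add, hx, hy, add_zero]) (fun c x _ hx => by
        rw [smul_eq_mul, ← mul_assoc, mul_comm F c, mul_assoc, hx, mul_zero]) hy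
      obtain ⟨d, hd⟩ : f a ha ∣ F := Finset.dvd_prod_of_mem _ (Finset.mem_univ (⟨a, ha⟩ : s))
      rw [hd, mul_comm (f a ha), mul_assoc, hfa, mul_zero]
    have := hFn _ hnil
    exact (IsLocalization.mk'_eq_zero_iff _ _).mpr ⟨⟨F * F, 2, pow_two F⟩, by
      rw [mul_assoc]; exact this⟩
  have hW : IsReduced (G.R.basicOpen F).toScheme := by
    have hb : IsAffineOpen (G.R.basicOpen F) := hU.basicOpen F
    have : IsAffine (G.R.basicOpen F).toScheme := hb
    have := hU.isLocalization_basicOpen F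
    have : _root_.IsReduced Γ(G.R, G.R.basicOpen F) :=
      isReduced_of_injective (IsLocalization.algEquiv (Submonoid.powers F)
        Γ(G.R, G.R.basicOpen F) (Localization.Away F)) (AlgEquiv.injective _)
    have : IsReduced (Spec Γ(G.R, G.R.basicOpen F)) := inferInstance
    exact isReduced_of_isOpenImmersion hb.isoSpec.hom
  refine ⟨G.R.basicOpen F, ⟨G.e (pt G k eU), ?_⟩, hW⟩
  let P : Spec B := Spec.map q (IsLocalRing.closedPoint k)
  have hP : P.asIdeal = m := by
    show Ideal.comap q.hom (IsLocalRing.maximalIdeal k) = m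
    rw [IsLocalRing.isField_iff_maximalIdeal_eq.mp (Field.toIsField k)]
    rfl
  have hjP : j P = G.e (pt G k eU) := by
    rw [← Scheme.Hom.comp_apply, hqj]; rfl
  have : P ∈ hU.fromSpec ⁻¹ᵁ G.R.basicOpen F := by
    rw [hU.fromSpec_preimage_basicOpen]
    exact fun h => hF (hP ▸ h)
  exact hjP ▸ this

end Groth.Agent.GrpdFld
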