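import Groth.Agent.GrpdFld.Irred
import Groth.Agent.GrpdFld.Translate
import Groth.Agent.GrpdLib.HomField
import Mathlib.AlgebraicGeometry.Morphisms.ClosedImmersion
import Mathlib.AlgebraicGeometry.Morphisms.SchemeTheoreticallyDominant

/-!
# Subgroupoids and closures of images
-/

set_option backward.isDefEq.respectTransparency false
set_option backward.isDefEq.respectTransparency.types false

universe u

open CategoryTheory CategoryTheory.Limits AlgebraicGeometry Grpd

noncomputable section

namespace Groth.Agent.GrpdFld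

variable {S : Scheme.{u}}

/-! ### The pair groupoid -/

/-- The groupoid `U ×_S U`. -/
def pairGrpd {U : Scheme.{u}} (pU : U ⟶ S) : GroupoidScheme S where
  U := U
  R := pullback pU pU
  pU := pU
  pR := pullback.fst pU pU ≫ pU
  s := pullback.snd pU pU
  t := pullback.fst pU pU
  e := pullback.lift (𝟙 U) (𝟙 U) rfl
  i := pullback.lift (pullback.snd pU pU) (pullback.fst pU pU) pullback.condition.symm
  c := pullback.lift (pullback.fst _ _ ≫ pullback.fst pU pU) (pullback.snd _ _ ≫ pullback.snd pU pU)
    (by simp only [Category.assoc, pullback.condition]; rw [reassoc_of% pullback.condition (f := pullback.snd pU pU) (g := pullback.fst pU pU), pullback.condition])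
  s_over := pullback.condition.symm
  t_over := rfl
  comp_s α β h := by simp
  comp_t α β h := by simp
  assoc α β γ h₁ h₂ := by apply pullback.hom_ext <;> simp
  e_s := pullback.lift_snd ..
  e_t := pullback.lift_fst ..
  comp_e α := by apply pullback.hom_ext <;> simp
  e_comp α := by apply pullback.hom_ext <;> simp
  i_s := pullback.lift_snd ..
  i_t := pullback.lift_fst ..
  comp_i α := by apply pullback.hom_ext <;> simp
  i_comp α := by apply pullback.hom_ext <;> simp

/-- The anchor as a morphism to the pair groupoid. -/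
def toPair (G : GroupoidScheme S) : GroupoidScheme.Hom G (pairGrpd G.pU) where
  fU := 𝟙 _
  fR := G.j
  fU_over := Category.id_comp _
  comm_s := (GrpdLib.j_snd G).trans (Category.comp_id _).symm
  comm_t := (GrpdLib.j_fst G).trans (Category.comp_id _).symm
  comm_c α β h := by
    apply pullback.hom_ext
    · refine ((Category.assoc _ _ _).trans (congrArg _ (GrpdLib.j_fst G))).trans
        ((G.comp_t α β h).trans ?_)
      refine Eq.trans ?_ ((pairGrpd G.pU).comp_t _ _ _).symm
      exact ((Category.assoc _ _ _).trans (congrArg _ (GrpdLib.j_fst G))).symm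
    · refine ((Category.assoc _ _ _).trans (congrArg _ (GrpdLib.j_snd G))).trans
        ((G.comp_s α β h).trans ?_)
      refine Eq.trans ?_ ((pairGrpd G.pU).comp_s _ _ _).symm
      exact ((Category.assoc _ _ _).trans (congrArg _ (GrpdLib.j_snd G))).symm

/-! ### Morphisms and inverses -/

theorem hom_comm_i {G₁ G₂ : GroupoidScheme S} (a : GroupoidScheme.Hom G₁ G₂) :
    G₁.i ≫ a.fR = a.fR ≫ G₂.i := by
  have h₁ : G₁.i ≫ G₁.s = 𝟙 G₁.R ≫ G₁.t := by rw [G₁.i_s, Category.id_comp]
  have h₂ : (G₁.i ≫ a.fR) ≫ G₂.s = a.fR ≫ G₂.t := by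
    rw [Category.assoc, a.comm_s, reassoc_of% G₁.i_s, a.comm_t]
  have h₃ : (a.fR ≫ G₂.i) ≫ G₂.s = a.fR ≫ G₂.t := by rw [Category.assoc, G₂.i_s]
  have key : pullback.lift (G₁.i ≫ a.fR) a.fR h₂ ≫ G₂.c =
      pullback.lift (a.fR ≫ G₂.i) a.fR h₃ ≫ G₂.c := by
    rw [G₂.i_comp a.fR, reassoc_of% a.comm_s, ← GrpdLib.hom_comm_e,
      ← Category.assoc G₁.s, ← (show pullback.lift G₁.i (𝟙 _) h₁ ≫ G₁.c = G₁.s ≫ G₁.e from
        (GrpdLib.c_congr G₁ h₁ (Category.id_comp _).symm rfl).trans
          ((G₁.i_comp (𝟙 G₁.R)).trans (Category.id_comp _))), a.comm_c]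
    exact GrpdLib.c_congr G₂ _ rfl (Category.id_comp _).symm
  have := (GrpdLib.isPullback_snd_c G₂).hom_ext (k := pullback.lift _ _ h₂) (l := pullback.lift _ _ h₃)
    (by simp) key
  simpa using congrArg (· ≫ pullback.fst G₂.s G₂.t) this

/-! ### Subgroupoids -/

variable (G : GroupoidScheme S) {Z : Scheme.{u}} (ι : Z ⟶ G.R)

/-- Pairs of composable arrows in `Z`. -/
def subPairs : pullback (ι ≫ G.s) (ι ≫ G.t) ⟶ pullback G.s G.t :=
  pullback.map _ _ _ _ ι ι (𝟙 _) (by simp) (by simp)

variable [Mono ι] (e' : G.U ⟶ Z) (he : e' ≫ ι = G.e) (i' : Z ⟶ Z) (hi : i' ≫ ι = ι ≫ G.i)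
  (c' : pullback (ι ≫ G.s) (ι ≫ G.t) ⟶ Z) (hc : c' ≫ ι = subPairs G ι ≫ G.c)

/-- The subgroupoid on a subscheme of arrows. -/
def subGrpd : GroupoidScheme S :=
  have key : ∀ {T : Scheme.{u}} (α β : T ⟶ Z) (h : α ≫ ι ≫ G.s = β ≫ ι ≫ G.t),
      (pullback.lift α β h ≫ c') ≫ ι =
        pullback.lift (α ≫ ι) (β ≫ ι) (by simpa only [Category.assoc] using h) ≫ G.c := by
    intro T α β h
    rw [Category.assoc, hc, ← Category.assoc]
    congr 1
    apply pullback.hom_ext <;> simp [subPairs]
  { U := G.U
    R := Z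
    pU := G.pU
    pR := ι ≫ G.pR
    s := ι ≫ G.s
    t := ι ≫ G.t
    e := e'
    i := i'
    c := c'
    s_over := by rw [Category.assoc, G.s_over]
    t_over := by rw [Category.assoc, G.t_over]
    comp_s := fun α β h => by
      rw [← Category.assoc, key, G.comp_s, Category.assoc]
    comp_t := fun α β h => by
      rw [← Category.assoc, key, G.comp_t, Category.assoc]
    assoc := fun α β γ h₁ h₂ => by
      rw [← cancel_mono ι]
      refine (key _ _ _).trans (Eq.trans ?_ (key _ _ _).symm)
      exact ((GrpdLib.c_congr G _ (key α β h₁) rfl).trans (G.assoc _ _ _ _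
        (by simpa only [Category.assoc] using h₂))).trans
        (GrpdLib.c_congr G _ rfl (key β γ h₂)).symm
    e_s := by rw [reassoc_of% he, G.e_s]
    e_t := by rw [reassoc_of% he, G.e_t]
    comp_e := fun α => by
      rw [← cancel_mono ι, key]
      refine (GrpdLib.c_congr G _ rfl ?_).trans (G.comp_e (α ≫ ι))
      simp [he]
    e_comp := fun α => by
      rw [← cancel_mono ι, key]
      refine (GrpdLib.c_congr G _ ?_ rfl).trans (G.e_comp (α ≫ ι))
      simp [he]
    i_s := by rw [reassoc_of% hi, G.i_s]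
    i_t := by rw [reassoc_of% hi, G.i_t]
    comp_i := fun α => by
      rw [← cancel_mono ι, key]
      refine (GrpdLib.c_congr G _ rfl ?_).trans ((G.comp_i (α ≫ ι)).trans ?_)
      · simp [hi]
      · simp [he]
    i_comp := fun α => by
      rw [← cancel_mono ι, key]
      refine (GrpdLib.c_congr G _ ?_ rfl).trans ((G.i_comp (α ≫ ι)).trans ?_)
      · simp [hi]
      · simp [he] }

/-- The inclusion of the subgroupoid. -/
def subGrpdHom : GroupoidScheme.Hom (subGrpd G ι e' he i' hi c' hc) G where
  fU := 𝟙 _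
  fR := ι
  fU_over := Category.id_comp _
  comm_s := (Category.comp_id _).symm
  comm_t := (Category.comp_id _).symm
  comm_c α β h := by
    show (_ ≫ c') ≫ ι = _
    rw [Category.assoc, hc, ← Category.assoc]
    congr 1
    apply pullback.hom_ext <;> simp only [subPairs, Category.assoc, pullback.map, pullback.lift_fst, pullback.lift_snd]
    · exact (Category.assoc _ _ _).symm.trans (congrArg (· ≫ ι) (pullback.lift_fst _ _ _))
    · exact (Category.assoc _ _ _).symm.trans (congrArg (· ≫ ι) (pullback.lift_snd _ _ _))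

end Groth.Agent.GrpdFld
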