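import Groth.Agent.GrpdLib.StabTorsor
import Groth.Agent.GrpSchLib.CartierCore
import Mathlib.Algebra.DualNumber
import Mathlib.AlgebraicGeometry.OpenImmersion

/-!
# Tangent vectors at the identity of a groupoid over a field extend to derivations
-/

set_option backward.isDefEq.respectTransparency false
set_option backward.isDefEq.respectTransparency.types false

universe u

open CategoryTheory CategoryTheory.Limits AlgebraicGeometry Grpd TrivSqZeroExt

noncomputable section

namespace Groth.Agent.GrpdFld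

variable {S : Scheme.{u}} (G : GroupoidScheme S) {k : Type u} [Field k]
  (eU : G.U ≅ Spec (CommRingCat.of k))

/-- `Spec` of a ring map. -/
abbrev sp {A B : Type u} [CommRing A] [CommRing B] (f : A →+* B) :
    Spec (CommRingCat.of B) ⟶ Spec (CommRingCat.of A) := Spec.map (CommRingCat.ofHom f)

theorem sp_comp {A B C : Type u} [CommRing A] [CommRing B] [CommRing C] (f : A →+* B) (g : B →+* C) :
    sp g ≫ sp f = sp (g.comp f) := by rw [← Spec.map_comp]; rfl

theorem sp_injective {A B : Type u} [CommRing A] [CommRing B] {f g : A →+* B} (h : sp f = sp g) : f = g :=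
  congrArg CommRingCat.Hom.hom (Spec.map_injective h)

theorem sp_id (A : Type u) [CommRing A] : sp (RingHom.id A) = 𝟙 (Spec (CommRingCat.of A)) :=
  Spec.map_id _

/-- The composite of a translated tangent vector with the universal arrow, in coordinates: `v` is the
tangent vector at the target of the universal arrow, `inl` the universal arrow. -/
theorem exists_translated {B C D : Type u} [CommRing B] [CommRing C] [CommRing D]
    (σ τ : k →+* B) (χ : B →+* k) (j : Spec (CommRingCat.of B) ⟶ G.R) [IsOpenImmersion j]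
    (hs : j ≫ G.s ≫ eU.hom = sp σ) (ht : j ≫ G.t ≫ eU.hom = sp τ)
    (hχ : sp χ ≫ j = eU.inv ≫ G.e)
    (fstC : C →+* B) (hsurj : Function.Surjective (sp fstC)) (v inlC : B →+* C) (ev : C →+* D)
    (g : B →+* D) (inlD : k →+* D)
    (h1 : v.comp σ = inlC.comp τ) (h2 : fstC.comp v = τ.comp χ) (h3 : fstC.comp inlC = RingHom.id B)
    (h4 : ev.comp v = g) (h5 : ev.comp inlC = inlD.comp χ) (h6 : g.comp σ = inlD) :
    ∃ φ : B →+* C, φ.comp σ = inlC.comp σ ∧ fstC.comp φ = RingHom.id B ∧ ev.comp φ = g := by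
  let p₁ := sp inlC ≫ j
  let p₂ := sp v ≫ j
  have hst : p₂ ≫ G.s = p₁ ≫ G.t := by
    rw [← cancel_mono eU.hom]
    simp only [p₁, p₂, Category.assoc, hs, ht, sp_comp, h1]
  have hfst : sp fstC ≫ pullback.lift p₂ p₁ hst ≫ G.c = j := by
    rw [GrpdLib.lift_comp_c]
    refine (GrpdLib.c_congr G _ (α' := j ≫ G.t ≫ G.e) ?_ ?_).trans (G.e_comp j)
    · calc sp fstC ≫ p₂ = sp τ ≫ sp χ ≫ j := by
            simp only [p₂, ← Category.assoc, sp_comp, h2]
        _ = (j ≫ G.t ≫ eU.hom) ≫ eU.inv ≫ G.e := by rw [ht, hχ]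
        _ = j ≫ G.t ≫ G.e := by simp
    · simp only [p₁, ← Category.assoc, sp_comp, h3, sp_id, Category.id_comp]
  have hev : sp ev ≫ pullback.lift p₂ p₁ hst ≫ G.c = sp g ≫ j := by
    rw [GrpdLib.lift_comp_c]
    refine (GrpdLib.c_congr G _ (α' := sp g ≫ j) ?_ ?_).trans (G.comp_e _)
    · simp only [p₂, ← Category.assoc, sp_comp, h4]
    · calc sp ev ≫ p₁ = sp inlD ≫ sp χ ≫ j := by
            simp only [p₁, ← Category.assoc, sp_comp, h5]
        _ = (sp g ≫ j ≫ G.s ≫ eU.hom) ≫ eU.inv ≫ G.e := by rw [hs, sp_comp, h6, hχ]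
        _ = (sp g ≫ j) ≫ G.s ≫ G.e := by simp
  have hΨs : (pullback.lift p₂ p₁ hst ≫ G.c) ≫ G.s ≫ eU.hom = sp (inlC.comp σ) := by
    rw [← Category.assoc _ G.s, G.comp_s]
    simp only [p₁, Category.assoc, hs, sp_comp]
  have hrange : Set.range ⇑(pullback.lift p₂ p₁ hst ≫ G.c) ⊆ Set.range j := by
    rintro _ ⟨P, rfl⟩
    obtain ⟨Q, rfl⟩ := hsurj P
    exact ⟨Q, by rw [← Scheme.Hom.comp_apply, hfst]⟩
  obtain ⟨f, hf⟩ : ∃ f : Spec (CommRingCat.of C) ⟶ Spec (CommRingCat.of B),
      f ≫ j = pullback.lift p₂ p₁ hst ≫ G.c :=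
    ⟨IsOpenImmersion.lift j _ hrange, IsOpenImmersion.lift_fac _ _ _⟩
  obtain ⟨φ, rfl⟩ := Spec.map_surjective f
  refine ⟨φ.hom, sp_injective ?_, sp_injective ?_, sp_injective ?_⟩
  · rw [← sp_comp, ← hΨs, ← hs, ← hf, Category.assoc]
    rfl
  · rw [← sp_comp, sp_id, ← cancel_mono j, Category.assoc, Category.id_comp]
    exact (congrArg (sp fstC ≫ ·) hf).trans hfst
  · rw [← sp_comp, ← cancel_mono j, Category.assoc]
    exact (congrArg (sp ev ≫ ·) hf).trans hev

/-- Dual numbers are functorial. -/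
def dmap {A B : Type u} [CommRing A] [CommRing B] (f : A →+* B) : DualNumber A →+* DualNumber B where
  toFun z := inl (f z.fst) + inr (f z.snd)
  map_one' := by ext <;> simp
  map_mul' a b := by ext <;> simp [mul_comm]
  map_zero' := by ext <;> simp
  map_add' a b := by ext <;> simp

@[simp] theorem fst_dmap {A B : Type u} [CommRing A] [CommRing B] (f : A →+* B) (z : DualNumber A) :
    (dmap f z).fst = f z.fst := by simp [dmap]

@[simp] theorem snd_dmap {A B : Type u} [CommRing A] [CommRing B] (f : A →+* B) (z : DualNumber A) :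
    (dmap f z).snd = f z.snd := by simp [dmap]

theorem surjective_sp_fst (B : Type u) [CommRing B] :
    Function.Surjective (sp (TrivSqZeroExt.fstHom B B B).toRingHom) := by
  intro P
  let fstB : DualNumber B →+* B := (TrivSqZeroExt.fstHom B B B).toRingHom
  have hker : ∀ x : DualNumber B, fstB x = 0 → x ∈ P.asIdeal := by
    intro x hx
    refine P.isPrime.mem_of_pow_mem 2 ?_
    have : x ^ 2 = 0 := by
      have hx0 : x.fst = 0 := by simpa [fstB] using hx
      ext <;> simp [pow_two, hx0]
    simp [this]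
  have hs : Function.Surjective fstB := fun b => ⟨TrivSqZeroExt.inl b, by simp [fstB]⟩
  refine ⟨⟨P.asIdeal.map fstB, ?_⟩, ?_⟩
  · have := P.isPrime
    exact Ideal.map_isPrime_of_surjective hs fun x hx => hker x hx
  · apply PrimeSpectrum.ext
    show Ideal.comap fstB (Ideal.map fstB P.asIdeal) = P.asIdeal
    rw [Ideal.comap_map_of_surjective fstB hs, sup_eq_left]
    exact fun x hx => hker x hx

theorem hχτ_of {B : Type u} [CommRing B] (τ : k →+* B) (χ : B →+* k)
    (j : Spec (CommRingCat.of B) ⟶ G.R) (ht : j ≫ G.t ≫ eU.hom = sp τ)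
    (hχ : sp χ ≫ j = eU.inv ≫ G.e) : χ.comp τ = RingHom.id k :=
  sp_injective (by
    rw [← sp_comp, ← ht, reassoc_of% hχ, reassoc_of% G.e_t, eU.inv_hom_id, sp_id])

theorem exists_derivation_lift (B : Type u) [CommRing B] [Algebra k B] (τ : k →+* B)
    (j : Spec (CommRingCat.of B) ⟶ G.R) [IsOpenImmersion j]
    (hs : j ≫ G.s ≫ eU.hom = sp (algebraMap k B)) (ht : j ≫ G.t ≫ eU.hom = sp τ)
    (χ : B →ₐ[k] k) (hχ : sp χ.toRingHom ≫ j = eU.inv ≫ G.e)
    (l : B →ₗ[k] k) (hl1 : l 1 = 0) (hl : ∀ a ∈ RingHom.ker χ ^ 2, l a = 0) :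
    ∃ D : Derivation k B B, ∀ b, D b - algebraMap k B (l b) ∈ RingHom.ker χ := by
  have hχτ : ∀ c, χ (τ c) = c := RingHom.congr_fun (hχτ_of G eU τ χ.toRingHom j ht hχ)
  -- the tangent vector as a point with values in the dual numbers
  have hlmul : ∀ a b, l (a * b) = χ a * l b + χ b * l a := by
    intro a b
    have h := hl ((a - algebraMap k B (χ a)) * (b - algebraMap k B (χ b))) (by
      rw [pow_two]; exact Ideal.mul_mem_mul (by simp [RingHom.mem_ker]) (by simp [RingHom.mem_ker]))
    have e : (a - algebraMap k B (χ a)) * (b - algebraMap k B (χ b)) =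
        a * b - χ a • b - χ b • a + (χ a * χ b) • (1 : B) := by
      simp [Algebra.smul_def]; ring
    rw [e] at h
    simp [hl1] at h
    linear_combination h
  obtain ⟨g, hg1, hg2, hgc⟩ : ∃ g : B →+* DualNumber k, (∀ b, (g b).fst = χ b) ∧
      (∀ b, (g b).snd = l b) ∧ ∀ c, g (algebraMap k B c) = inl c := by
    refine ⟨{ toFun := fun b => inl (χ b) + inr (l b)
              map_one' := ?_
              map_mul' := fun a b => ?_
              map_zero' := ?_
              map_add' := fun a b => ?_ }, fun b => ?_, fun b => ?_, fun c => ?_⟩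
    · ext <;> simp [hl1]
    · ext
      · simp
      · simp [hlmul]; ring
    · ext <;> simp
    · ext <;> simp
    · simp
    · simp
    · have : l (algebraMap k B c) = 0 := by
        rw [Algebra.algebraMap_eq_smul_one, map_smul, hl1, smul_zero]
      ext <;> simp [this]
  obtain ⟨φ, hφσ, hφfst, hφev⟩ := exists_translated G eU (algebraMap k B) τ χ.toRingHom j hs ht hχ
    (TrivSqZeroExt.fstHom B B B).toRingHom (surjective_sp_fst B) ((dmap τ).comp g)
    (TrivSqZeroExt.inlHom B B) (dmap χ.toRingHom) g (TrivSqZeroExt.inlHom k k)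
    (RingHom.ext fun c => by
      rw [RingHom.comp_apply, RingHom.comp_apply, RingHom.comp_apply, hgc]
      ext <;> simp)
    (RingHom.ext fun b => by simp [hg1])
    (RingHom.ext fun b => by simp)
    (RingHom.ext fun b => by ext <;> simp [hχτ])
    (RingHom.ext fun b => by ext <;> simp)
    (RingHom.ext fun c => by simpa using hgc c)
  let φ' : B →ₐ[k] DualNumber B :=
    { φ with
      commutes' := fun c =>
        (RingHom.congr_fun hφσ c).trans (TrivSqZeroExt.algebraMap_eq_inl' k B B c).symm }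
  have hsec : ∀ b, (φ' b).fst = b := RingHom.congr_fun hφfst
  let D : Derivation k B B :=
    { toLinearMap := (TrivSqZeroExt.sndHom B B).restrictScalars k ∘ₗ φ'.toLinearMap
      map_one_eq_zero' := by simp
      leibniz' := fun a b => by
        simp [hsec]
        ring }
  refine ⟨D, fun b => ?_⟩
  have := congrArg TrivSqZeroExt.snd (RingHom.congr_fun hφev b)
  rw [RingHom.mem_ker, map_sub, AlgHom.commutes, sub_eq_zero]
  simpa [hg2, D, φ'] using this

end Groth.Agent.GrpdFld
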